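import Mathlib
import Cfsg.Agent.Lib.FischerMTypes.InvolutionsM23
import Cfsg.Agent.Lib.FischerMTypes.PairCentralizer
import Cfsg.Agent.Lib.FischerMTypes.TypeM23

/-!
Spaces of transpositions whose centralisers are a transposition times a copy of a group of type M(23).
-/

set_option autoImplicit false
set_option linter.style.haveILetI false
set_option linter.unusedSectionVars false

namespace Cfsg.Agent.Lib.FischerTop83

open Cfsg.Agent.Lib.FischerMTypes.Basic Cfsg.Agent.Lib.FischerMTypes.Primitive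
  Cfsg.Agent.Lib.FischerMTypes.Step Cfsg.Agent.Lib.FischerMTypes
open Cfsg.Agent.Lib.FischerMTypes.TraceCounts (Sys)

universe u v

/-- the standing facts on the group of type M(23) -/
structure Base23 {Q : Type v} [Group Q] [Finite Q] {Q₂ : Type v} [Group Q₂] [Finite Q₂] (E : Set Q)
    (E₂ : Set Q₂) (F : Type) [Field F] [Fintype F] where
  hM : Cfsg.IsOfTypeM23 Q E
  hD : Cfsg.IsThreeTranspositionGroup E
  hprim : Cfsg.IsPrimitiveUnderConj E
  S22 : Sys E₂ F
  S : StepData E E₂ 3510 693 180 126 6531840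

/-- centralisers are `⟨a⟩ × Q`, the commuting members are `a * s` -/
structure Space {G : Type u} [Group G] (D : Set G) {Q : Type v} [Group Q] (E : Set Q) where
  inv : ∀ a ∈ D, a * a = 1
  conj : ∀ a ∈ D, ∀ b ∈ D, a * b * a ∈ D
  e : ∀ a ∈ D, Q →* G
  inj : ∀ a (ha : a ∈ D), Function.Injective (e a ha)
  comm : ∀ a (ha : a ∈ D) (q : Q), Commute a (e a ha q)
  not_mem : ∀ a (ha : a ∈ D) (q : Q), e a ha q ≠ a
  cent : ∀ a (ha : a ∈ D) (g : G), Commute a g → ∃ q : Q, g = e a ha q ∨ g = a * e a ha q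
  perp_eq : ∀ a (ha : a ∈ D) (y : G), y ∈ perp D a ↔ ∃ s ∈ E, y = a * e a ha s

section base

variable {Q : Type v} [Group Q] [Finite Q] {Q₂ : Type v} [Group Q₂] [Finite Q₂] {E : Set Q} {E₂ : Set Q₂}
  {F : Type} [Field F] [Fintype F]

theorem Base23.rank (B : Base23 E E₂ F) : Rank.RankData E 31671 3510 693 351 4585351680 :=
  M23Data.rankData B.hD B.hprim B.hM B.S22 B.S

theorem Base23.pinned (B : Base23 E E₂ F) : Pinned E 3510 693 180 126 351 :=
  M23Data.pinned B.hD B.hprim B.hM B.S22 B.S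

theorem Base23.classes (B : Base23 E E₂ F) :
    (∀ x : Q, orderOf x = 2 → ∃ m : ℕ, 1 ≤ m ∧ m ≤ 3 ∧ Step.IsProd E m x) ∧
      (∀ m : ℕ, 1 ≤ m → m ≤ 3 → (∃ x : Q, orderOf x = 2 ∧ Step.IsProd E m x) ∧
        ∀ x y : Q, Step.IsProd E m x → Step.IsProd E m y → IsConj x y) ∧
      ∀ (m m' : ℕ) (x : Q), 1 ≤ m → m ≤ 3 → 1 ≤ m' → m' ≤ 3 → Step.IsProd E m x → Step.IsProd E m' x →
        m = m' :=
  InvolutionsM23.three_classes B.hD B.hprim B.hM B.S22 B.S

theorem Base23.perp_nonempty (B : Base23 E E₂ F) {s : Q} (hs : s ∈ E) : (perp E s).Nonempty :=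
  B.S.perp_nonempty M23Data.small hs

/-- commuting pairs are conjugate -/
theorem Base23.trans_two (B : Base23 E E₂ F) : TupleTrans E 2 :=
  B.S.trans_succ (InvolutionsM23.trans_M22 B.S22 (by norm_num))

/-- seven commuting neighbours with product one -/
theorem Base23.exists_seven (B : Base23 E E₂ F) {s : Q} (hs : s ∈ E) :
    ∃ L : List Q, L.length = 7 ∧ (∀ y ∈ L, y ∈ perp E s) ∧ L.prod = 1 := by
  obtain ⟨s₁, hs₁⟩ := B.perp_nonempty hs
  have hs' : s ∈ perp E s₁ := ⟨hs, Ne.symm hs₁.2.1, hs₁.2.2.symm⟩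
  have he := B.S.f_mem hs₁.1 hs'
  obtain ⟨l, hl, hlen, hlp, hl1⟩ := PairCentralizer.exists_six_in_perp B.S22 he
  obtain ⟨L, hLf, hLT, hLp⟩ := B.S.exists_lift hs₁.1 hl
  have hL6 : L.length = 6 := by rw [← hlen, ← hLf, List.length_map]
  have hLs : ∀ y ∈ L, y ∈ perp E s := fun y hy => by
    have hq := hlp _ (hLf ▸ List.mem_map.2 ⟨y, hy, rfl⟩)
    exact ⟨(hLp y hy).1, fun h => hq.2.1 (by rw [h]), (B.S.commute_iff hs₁.1 hs' (hLp y hy)).1 hq.2.2⟩
  have hm : L.prod ∈ Subgroup.closure (perp E s₁) := PreStep.list_prod_mem hLp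
  have hprod : L.prod = s₁ := by
    refine (B.S.center_perp M23Data.small hs₁.1 hm fun y hy => ?_).resolve_left
      (TypeM23.six_ne_one B.S22 B.S.toPreStep hLT hL6)
    have := (B.S.f_eq_iff hs₁.1 hm (one_mem _)).mp
      (by rw [B.S.f_prod hs₁.1 hLp, hLf, hl1, B.S.f_one]) y hy
    rwa [mul_one, Commute.inv_right_iff] at this
  refine ⟨s₁ :: L, by simp [hL6], ?_, ?_⟩
  · intro y hy
    rcases List.mem_cons.1 hy with rfl | hy
    · exact hs₁
    · exact hLs y hy
  · rw [List.prod_cons, hprod, mul_self B.hD.1 hs₁.1]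

end base

namespace Space

variable {G : Type u} [Group G] {D : Set G} {Q : Type v} [Group Q] {E : Set Q} (X : Space D E)

include X in
theorem inv_eq {a : G} (ha : a ∈ D) : a⁻¹ = a := inv_eq_of_mul_eq_one_right (X.inv a ha)

include X in
/-- `D` is closed under conjugation by the group it generates -/
theorem conj_mem {g : G} (hg : g ∈ Subgroup.closure D) : ∀ {y : G}, y ∈ D → g * y * g⁻¹ ∈ D := by
  induction hg using Subgroup.closure_induction'' with
  | one => intro y hy; simpa using hy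
  | mem x hx => intro y hy; rw [X.inv_eq hx]; exact X.conj x hx y hy
  | inv_mem x hx => intro y hy; rw [inv_inv, X.inv_eq hx]; exact X.conj x hx y hy
  | mul x z _ _ ihx ihz =>
    intro y hy
    rw [show x * z * y * (x * z)⁻¹ = x * (z * y * z⁻¹) * x⁻¹ by group]
    exact ihx (ihz hy)

variable {a : G} (ha : a ∈ D)

theorem mul_e_mem {s : Q} (hs : s ∈ E) : a * X.e a ha s ∈ perp D a :=
  (X.perp_eq a ha _).2 ⟨s, hs, rfl⟩

open Classical in
/-- the coordinate of a member commuting with `a` -/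
noncomputable def co (y : G) : Q := if h : y ∈ perp D a then ((X.perp_eq a ha y).1 h).choose else 1

theorem co_spec {y : G} (h : y ∈ perp D a) : X.co ha y ∈ E ∧ y = a * X.e a ha (X.co ha y) := by
  rw [co, dif_pos h]
  exact ((X.perp_eq a ha y).1 h).choose_spec

theorem co_mem {y : G} (h : y ∈ perp D a) : X.co ha y ∈ E := (X.co_spec ha h).1

theorem co_mul {s : Q} (hs : s ∈ E) : X.co ha (a * X.e a ha s) = s :=
  (X.inj a ha (mul_left_cancel (X.co_spec ha (X.mul_e_mem ha hs)).2)).symm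

theorem e_co {y : G} (h : y ∈ perp D a) : X.e a ha (X.co ha y) = a * y := by
  conv_rhs => rw [(X.co_spec ha h).2, ← mul_assoc, X.inv a ha, one_mul]

theorem co_inj {y z : G} (hy : y ∈ perp D a) (hz : z ∈ perp D a) (h : X.co ha y = X.co ha z) : y = z := by
  rw [(X.co_spec ha hy).2, (X.co_spec ha hz).2, h]

theorem co_commute {y z : G} (hy : y ∈ perp D a) (hz : z ∈ perp D a) :
    Commute (X.co ha y) (X.co ha z) ↔ Commute y z := by
  constructor
  · intro h
    rw [(X.co_spec ha hy).2, (X.co_spec ha hz).2]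
    exact ((Commute.refl a).mul_right (X.comm a ha _)).mul_left
      ((X.comm a ha _).symm.mul_right (h.map (X.e a ha)))
  · intro h
    apply X.inj a ha
    rw [map_mul, map_mul, X.e_co ha hy, X.e_co ha hz]
    exact (((Commute.refl a).mul_right hz.2.2).mul_left (hy.2.2.symm.mul_right h)).eq

/-- an element `e q` or `a * e q` acts on the perp set as `q` -/
theorem co_conj {g : G} {q : Q} (hg : g = X.e a ha q ∨ g = a * X.e a ha q)
    (hE : ∀ s ∈ E, q * s * q⁻¹ ∈ E) {y : G} (hy : y ∈ perp D a) :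
    g * y * g⁻¹ ∈ perp D a ∧ X.co ha (g * y * g⁻¹) = q * X.co ha y * q⁻¹ := by
  have hs := hE _ (X.co_mem ha hy)
  have key : g * y * g⁻¹ = a * X.e a ha (q * X.co ha y * q⁻¹) := by
    have hq : X.e a ha q * a = a * X.e a ha q := (X.comm a ha q).eq.symm
    have base : X.e a ha q * y * (X.e a ha q)⁻¹ = a * X.e a ha (q * X.co ha y * q⁻¹) := by
      conv_lhs => rw [(X.co_spec ha hy).2]
      rw [← mul_assoc, hq, map_mul, map_mul, map_inv]
      simp only [mul_assoc]
    rcases hg with rfl | rfl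
    · exact base
    · rw [show a * X.e a ha q * y * (a * X.e a ha q)⁻¹ = a * (X.e a ha q * y * (X.e a ha q)⁻¹) * a⁻¹ by group,
        base, mul_assoc a (a * _), mul_assoc a (X.e a ha _), ((X.comm a ha _).inv_left).eq.symm,
        ← mul_assoc a a⁻¹, mul_inv_cancel, one_mul]
  rw [key]
  exact ⟨X.mul_e_mem ha hs, X.co_mul ha hs⟩

/-- the coordinates carry conjugation -/
theorem co_braid [Finite Q] (hE : Cfsg.IsThreeTranspositionGroup E) {x y : G} (hx : x ∈ perp D a)
    (hy : y ∈ perp D a) :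
    x * y * x ∈ perp D a ∧ X.co ha (x * y * x) = X.co ha x * X.co ha y * X.co ha x := by
  have h := X.co_conj ha (g := x) (Or.inr (X.co_spec ha hx).2)
    (fun s hs => hE.2.1 _ s hs) hy
  rw [X.inv_eq hx.1, Basic.inv_eq hE.1 (X.co_mem ha hx)] at h
  exact h

/-- centralising elements act through `Q` -/
theorem co_conj_cent (hE : Cfsg.IsThreeTranspositionGroup E) {g : G} (hg : Commute a g) :
    ∃ q : Q, (g = X.e a ha q ∨ g = a * X.e a ha q) ∧
      ∀ y ∈ perp D a, g * y * g⁻¹ ∈ perp D a ∧ X.co ha (g * y * g⁻¹) = q * X.co ha y * q⁻¹ := by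
  obtain ⟨q, hq⟩ := X.cent a ha g hg
  exact ⟨q, hq, fun y hy => X.co_conj ha hq (fun s hs => hE.2.1 q s hs) hy⟩

/-- the copy of `Q` lies in the group generated by `D` -/
theorem e_mem (hE : Cfsg.IsThreeTranspositionGroup E) (q : Q) : X.e a ha q ∈ Subgroup.closure D := by
  have hq : q ∈ Subgroup.closure E := hE.2.2 ▸ Subgroup.mem_top q
  induction hq using Subgroup.closure_induction with
  | mem s hs =>
    have h := Subgroup.mul_mem _ (Subgroup.subset_closure ha) (Subgroup.subset_closure (X.mul_e_mem ha hs).1)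
    rwa [← mul_assoc, X.inv a ha, one_mul] at h
  | one => rw [map_one]; exact one_mem _
  | mul x y _ _ hx hy => rw [map_mul]; exact mul_mem hx hy
  | inv x _ hx => rw [map_inv]; exact inv_mem hx

end Space

end Cfsg.Agent.Lib.FischerTop83
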