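import Mathlib
import Cfsg.Agent.Lib.FischerTop83.Space

/-!
A set of transpositions of a group of type M(23) in which every member has 351 commuting partners has
at most 3240 members, and if it has 3240 every other transposition commutes with one of them.
-/

set_option autoImplicit false
set_option linter.style.haveILetI false
set_option linter.unusedSectionVars false

namespace Cfsg.Agent.Lib.FischerTop83

open Cfsg.Agent.Lib.FischerMTypes.Primitive Cfsg.Agent.Lib.FischerMTypes

universe v

variable {Q : Type v} [Group Q] [Finite Q] {Q₂ : Type v} [Group Q₂] [Finite Q₂] {E : Set Q} {E₂ : Set Q₂}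
  {F : Type} [Field F] [Fintype F] (B : Base23 E E₂ F)

include B in
theorem trace_bound {U : Set Q} (hUE : U ⊆ E)
    (hdeg : ∀ p ∈ U, {q | q ∈ U ∧ (q ≠ p ∧ Commute p q)}.ncard = 351) :
    U.ncard ≤ 3240 ∧ (U.ncard = 3240 → ∀ f ∈ E, f ∉ U → ∃ p ∈ U, Commute f p) := by
  classical
  have R := B.rank
  letI := Fintype.ofFinite Q
  set n := U.ncard with hn
  set P : Q → Q → Prop := fun f p => f ≠ p ∧ Commute f p with hP
  set M : Q → ℕ := fun f => (U.toFinset.filter (P f)).card with hM
  set W := (E \ U).toFinset with hW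
  have cP : ∀ (S : Set Q) (f : Q), (S.toFinset.filter (P f)).card = {q | q ∈ S ∧ P f q}.ncard := by
    intro S f
    rw [← Set.ncard_coe_finset]
    congr 1
    ext q; simp
  have hPs : ∀ {f p}, P f p → P p f := fun h => ⟨h.1.symm, h.2.symm⟩
  have hin : ∀ p ∈ U.toFinset, M p = 351 := fun p hp => by
    rw [hM]
    refine (cP U p).trans (Eq.trans ?_ (hdeg p (Set.mem_toFinset.1 hp)))
    congr 1; ext q; exact ⟨fun h => ⟨h.1, h.2.1.symm, h.2.2⟩, fun h => ⟨h.1, h.2.1.symm, h.2.2⟩⟩
  -- sums over the whole class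
  have hsum₁ : ∑ f ∈ E.toFinset, M f = 3510 * n := by
    simp only [hM, Finset.card_filter]
    rw [Finset.sum_comm]
    have : ∀ p ∈ U.toFinset, (∑ f ∈ E.toFinset, if P f p then 1 else 0) = 3510 := by
      intro p hp
      rw [← Finset.card_filter, ← R.perp_card p (hUE (Set.mem_toFinset.1 hp)), ← Set.ncard_coe_finset]
      congr 1; ext q
      simp only [Finset.coe_filter, Set.mem_toFinset, hP]
      exact ⟨fun h => ⟨h.1, h.2.1, h.2.2.symm⟩, fun h => ⟨h.1, h.2.1, h.2.2.symm⟩⟩
    rw [Finset.sum_congr rfl this, Finset.sum_const, smul_eq_mul, ← Set.ncard_eq_toFinset_card', ← hn, mul_comm]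
  have hsum₂ : ∑ f ∈ E.toFinset, M f ^ 2 + n * (352 * 351) = n * (3510 + 351 * 693 + n * 351) := by
    have e : ∑ f ∈ E.toFinset, M f ^ 2 =
        ∑ p ∈ U.toFinset, ∑ q ∈ U.toFinset, (E.toFinset.filter fun f => P f p ∧ P f q).card := by
      simp only [hM, Finset.card_filter, sq, Finset.sum_mul_sum]
      rw [Finset.sum_comm]
      refine Finset.sum_congr rfl fun p _ => ?_
      rw [Finset.sum_comm]
      refine Finset.sum_congr rfl fun q _ => Finset.sum_congr rfl fun f _ => ?_
      split_ifs <;> simp_all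
    have hrow : ∀ p ∈ U.toFinset,
        (∑ q ∈ U.toFinset, (E.toFinset.filter fun f => P f p ∧ P f q).card) + 352 * 351 =
          3510 + 351 * 693 + n * 351 := by
      intro p hp
      have hpE := hUE (Set.mem_toFinset.1 hp)
      set c : Q → ℕ := fun q => (E.toFinset.filter fun f => P f p ∧ P f q).card
      have hc : ∀ q, c q = {f | f ∈ E ∧ (P f p ∧ P f q)}.ncard := fun q => by
        show Finset.card _ = _
        rw [← Set.ncard_coe_finset]; congr 1; ext f; simp
      have v1 : c p = 3510 := by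
        rw [hc, ← R.perp_card p hpE]; congr 1; ext f
        exact ⟨fun h => ⟨h.1, h.2.1.1, h.2.1.2.symm⟩, fun h => ⟨h.1, ⟨h.2.1, h.2.2.symm⟩, h.2.1, h.2.2.symm⟩⟩
      have v2 : ∀ q ∈ U.toFinset.filter (P p), c q = 693 := by
        intro q hq
        rw [Finset.mem_filter, Set.mem_toFinset] at hq
        rw [hc, ← R.edge p hpE q ⟨hUE hq.1, hq.2.1.symm, hq.2.2⟩]
        congr 1; ext f
        exact ⟨fun h => ⟨⟨h.1, h.2.1.1, h.2.1.2.symm⟩, h.1, h.2.2.1, h.2.2.2.symm⟩,
          fun h => ⟨h.1.1, ⟨h.1.2.1, h.1.2.2.symm⟩, h.2.2.1, h.2.2.2.symm⟩⟩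
      have v3 : ∀ q ∈ U.toFinset.filter (fun q => ¬ P p q ∧ q ≠ p), c q = 351 := by
        intro q hq
        rw [Finset.mem_filter, Set.mem_toFinset] at hq
        have hnc : ¬ Commute p q := fun h => hq.2.1 ⟨hq.2.2.symm, h⟩
        rw [hc, ← R.trace p hpE q (hUE hq.1) hnc]
        congr 1; ext f
        exact ⟨fun h => ⟨⟨h.1, h.2.1.1, h.2.1.2.symm⟩, h.1, h.2.2.1, h.2.2.2.symm⟩,
          fun h => ⟨h.1.1, ⟨h.1.2.1, h.1.2.2.symm⟩, h.2.2.1, h.2.2.2.symm⟩⟩
      have hk : (U.toFinset.filter (P p)).card = 351 := hin p hp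
      have hr : (U.toFinset.filter (fun q => ¬ P p q ∧ q ≠ p)).card + 352 = n := by
        have hd : U.toFinset = insert p (U.toFinset.filter (P p) ∪
            U.toFinset.filter (fun q => ¬ P p q ∧ q ≠ p)) := by
          ext q
          simp only [Finset.mem_insert, Finset.mem_union, Finset.mem_filter]
          constructor
          · intro h; tauto
          · rintro (rfl | h | h)
            exacts [hp, h.1, h.1]
        have hc' := congrArg Finset.card hd
        rw [Finset.card_insert_of_notMem, Finset.card_union_of_disjoint, hk, ← Set.ncard_eq_toFinset_card',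
          ← hn] at hc'
        · omega
        · rw [Finset.disjoint_left]
          intro q h1 h2
          exact (Finset.mem_filter.1 h2).2.1 (Finset.mem_filter.1 h1).2
        · intro h
          rcases Finset.mem_union.1 h with h | h
          · exact (Finset.mem_filter.1 h).2.1 rfl
          · exact (Finset.mem_filter.1 h).2.2 rfl
      have hsplit : ∑ q ∈ U.toFinset, c q = c p + (∑ q ∈ U.toFinset.filter (P p), c q +
          ∑ q ∈ U.toFinset.filter (fun q => ¬ P p q ∧ q ≠ p), c q) := by
        rw [← Finset.add_sum_erase _ _ hp, ← Finset.sum_union]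
        · congr 1
          refine Finset.sum_congr ?_ fun _ _ => rfl
          ext q
          simp only [Finset.mem_erase, Finset.mem_union, Finset.mem_filter]
          constructor
          · intro h; tauto
          · rintro (⟨h, h'⟩ | ⟨h, h'⟩)
            exacts [⟨h'.1.symm, h⟩, ⟨h'.2, h⟩]
        · rw [Finset.disjoint_left]
          intro q h1 h2
          exact (Finset.mem_filter.1 h2).2.1 (Finset.mem_filter.1 h1).2
      show ∑ q ∈ U.toFinset, c q + _ = _
      rw [hsplit, v1, Finset.sum_congr rfl v2, Finset.sum_congr rfl v3, Finset.sum_const, Finset.sum_const,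
        smul_eq_mul, smul_eq_mul, hk]
      omega
    have hs : ∑ p ∈ U.toFinset, ((∑ q ∈ U.toFinset, (E.toFinset.filter fun f => P f p ∧ P f q).card) +
        352 * 351) = n * (3510 + 351 * 693 + n * 351) := by
      rw [Finset.sum_congr rfl hrow, Finset.sum_const, smul_eq_mul, ← Set.ncard_eq_toFinset_card', ← hn]
    rw [Finset.sum_add_distrib, Finset.sum_const, smul_eq_mul, ← Set.ncard_eq_toFinset_card', ← hn] at hs
    rw [e]
    exact hs
  -- split off the set itself
  have hsplit : ∀ g : Q → ℕ, ∑ f ∈ E.toFinset, g f = ∑ f ∈ U.toFinset, g f + ∑ f ∈ W, g f := by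
    intro g
    rw [← Finset.sum_union (by
      rw [Finset.disjoint_left]
      intro q h1 h2
      rw [hW, Set.mem_toFinset] at h2
      exact h2.2 (Set.mem_toFinset.1 h1))]
    refine Finset.sum_congr ?_ fun _ _ => rfl
    ext q
    simp only [Finset.mem_union, hW, Set.mem_toFinset, Set.mem_sdiff]
    exact ⟨fun h => by tauto, fun h => h.elim (fun h => hUE h) fun h => h.1⟩
  have hU₁ : ∑ f ∈ U.toFinset, M f = n * 351 := by
    rw [Finset.sum_congr rfl hin, Finset.sum_const, smul_eq_mul, ← Set.ncard_eq_toFinset_card']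
  have hU₂ : ∑ f ∈ U.toFinset, M f ^ 2 = n * 351 ^ 2 := by
    rw [Finset.sum_congr rfl (fun f hf => by rw [hin f hf]), Finset.sum_const, smul_eq_mul,
      ← Set.ncard_eq_toFinset_card']
  have hWc : W.card + n = 31671 := by
    rw [hW, ← Set.ncard_eq_toFinset_card', hn, Set.ncard_sdiff_add_ncard_of_subset hUE (Set.toFinite _),
      R.class_card]
  have h1 : ((∑ f ∈ W, M f : ℕ) : ℤ) = 3159 * n := by
    have := hsplit M
    rw [hsum₁, hU₁] at this
    omega
  have h2 : ((∑ f ∈ W, M f ^ 2 : ℕ) : ℤ) = 351 * (n : ℤ) ^ 2 := by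
    have := congrArg (fun k : ℕ => (k : ℤ)) (hsplit fun f => M f ^ 2)
    have e2 := congrArg (fun k : ℕ => (k : ℤ)) hsum₂
    rw [hU₂] at this
    push_cast at this e2 ⊢
    linarith
  push_cast at h1 h2
  have hcs := sq_sum_le_card_mul_sum_sq (s := W) (f := fun f => (M f : ℤ))
  have hc' : (W.card : ℤ) = 31671 - n := by omega
  rw [h1, h2, hc'] at hcs
  refine ⟨?_, fun hn' f hf hfU => ?_⟩
  · by_contra h
    have hn' : (3241 : ℤ) ≤ n := by omega
    nlinarith [mul_le_mul hn' hn' (by norm_num) (by omega)]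
  · have hU' : (W.card : ℤ) = 28431 := by omega
    have hzero : ∑ g ∈ W, ((M g : ℤ) - 360) ^ 2 = 0 := by
      simp only [sub_sq, Finset.sum_add_distrib, Finset.sum_sub_distrib, Finset.sum_const, nsmul_eq_mul,
        ← Finset.sum_mul, ← Finset.mul_sum, hU', h1, h2, hn']
      norm_num
    have hfW : f ∈ W := by rw [hW, Set.mem_toFinset]; exact ⟨hf, hfU⟩
    have := (Finset.sum_eq_zero_iff_of_nonneg fun g _ => sq_nonneg _).mp hzero f hfW
    have h360 : (M f : ℤ) = 360 := by
      linarith [pow_eq_zero_iff (n := 2) (a := (M f : ℤ) - 360) (by norm_num) |>.mp this]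
    obtain ⟨p, hp⟩ := Finset.card_pos.1 (show 0 < (U.toFinset.filter (P f)).card by
      have : M f = 360 := by exact_mod_cast h360
      simp only [hM] at this; omega)
    rw [Finset.mem_filter, Set.mem_toFinset] at hp
    exact ⟨p, hp.1, hp.2.2⟩

end Cfsg.Agent.Lib.FischerTop83
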