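import Mathlib
import Cfsg.Agent.Lib.FischerTop83.Space

/-!
The automorphism of a group of type M(22) induced by swapping two commuting members of a space, and
the comparison of two spaces along an edge.
-/

set_option autoImplicit false
set_option linter.style.haveILetI false
set_option linter.unusedSectionVars false

namespace Cfsg.Agent.Lib.FischerTop83

open Cfsg.Agent.Lib.FischerMTypes.Basic Cfsg.Agent.Lib.FischerMTypes.Primitive
  Cfsg.Agent.Lib.FischerMTypes.Step Cfsg.Agent.Lib.FischerMTypes.Levels Cfsg.Agent.Lib.FischerMTypes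

universe u v w

variable {G : Type u} [Group G] {D : Set G} {Q : Type v} [Group Q] [Finite Q] {E : Set Q}
  {Q₂ : Type v} [Group Q₂] [Finite Q₂] {E₂ : Set Q₂} {F : Type} [Field F] [Fintype F]

namespace Space

variable (X : Space D E) (B : Base23 E E₂ F) {a b : G} (ha : a ∈ D)

include X B ha in
/-- a member commuting with both ends of an edge gives an element swapping them -/
theorem exists_swap (hb : b ∈ perp D a) :
    ∃ σ ∈ Subgroup.closure D, σ * a * σ⁻¹ = b ∧ σ * b * σ⁻¹ = a := by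
  obtain ⟨q, hq⟩ := B.perp_nonempty (X.co_mem ha hb)
  set p := a * X.e a ha q with hp
  have hpa : p ∈ perp D a := X.mul_e_mem ha hq.1
  have hne : p ≠ b := fun h => hq.2.1 (by rw [← X.co_mul ha hq.1, ← hp, h])
  have hpb : Commute b p := by
    rw [← X.co_commute ha hb hpa, hp, X.co_mul ha hq.1]
    exact hq.2.2
  have hap : a ∈ perp D p := ⟨ha, Ne.symm hpa.2.1, hpa.2.2.symm⟩
  have hbp : b ∈ perp D p := ⟨hb.1, Ne.symm hne, hpb.symm⟩
  have hxy : X.co hpa.1 a ≠ X.co hpa.1 b := fun h => hb.2.1 (X.co_inj hpa.1 hap hbp h).symm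
  have hc : Commute (X.co hpa.1 a) (X.co hpa.1 b) := (X.co_commute hpa.1 hap hbp).2 hb.2.2
  have hT : ∀ {x y : Q}, x ∈ E → y ∈ E → x ≠ y → Commute x y → Tuple E [x, y] := fun {x y} hx hy hne h =>
    ⟨by simp [hne], by simp [hx, hy], by simp [h, h.symm]⟩
  obtain ⟨r, hr⟩ := B.trans_two _ _ (hT (X.co_mem hpa.1 hap) (X.co_mem hpa.1 hbp) hxy hc)
    (hT (X.co_mem hpa.1 hbp) (X.co_mem hpa.1 hap) hxy.symm hc.symm) rfl rfl
  simp only [List.map_cons, List.map_nil, List.cons.injEq, and_true] at hr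
  have hE : ∀ s ∈ E, r * s * r⁻¹ ∈ E := fun s hs => B.hD.2.1 r s hs
  obtain ⟨m₁, c₁⟩ := X.co_conj hpa.1 (g := X.e p hpa.1 r) (Or.inl rfl) hE hap
  obtain ⟨m₂, c₂⟩ := X.co_conj hpa.1 (g := X.e p hpa.1 r) (Or.inl rfl) hE hbp
  exact ⟨X.e p hpa.1 r, X.e_mem hpa.1 B.hD r, X.co_inj hpa.1 m₁ hbp (c₁.trans hr.1),
    X.co_inj hpa.1 m₂ hap (c₂.trans hr.2)⟩

/-- the projection of the centraliser of `a` onto `Q` -/
theorem exists_part : ∃ π : ↥(Subgroup.centralizer ({a} : Set G)) →* Q,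
    ∀ g : ↥(Subgroup.centralizer ({a} : Set G)), ∀ q : Q,
      (g : G) = X.e a ha q ∨ (g : G) = a * X.e a ha q → π g = q := by
  classical
  have hu : ∀ {g : G} {q q' : Q}, (g = X.e a ha q ∨ g = a * X.e a ha q) →
      (g = X.e a ha q' ∨ g = a * X.e a ha q') → q = q' := by
    intro g q q' h h'
    rcases h with rfl | rfl <;> rcases h' with h' | h'
    · exact X.inj a ha h'
    · exfalso
      refine X.not_mem a ha (q * q'⁻¹) ?_
      rw [map_mul, map_inv, h', mul_inv_cancel_right]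
    · exfalso
      refine X.not_mem a ha (q' * q⁻¹) ?_
      rw [map_mul, map_inv, ← h', mul_inv_cancel_right]
    · exact X.inj a ha (mul_left_cancel h')
  let f : ↥(Subgroup.centralizer ({a} : Set G)) → Q := fun g =>
    (X.cent a ha (g : G) (Subgroup.mem_centralizer_singleton_iff.1 g.2).symm).choose
  have hf : ∀ g : ↥(Subgroup.centralizer ({a} : Set G)), (g : G) = X.e a ha (f g) ∨ (g : G) = a * X.e a ha (f g) := fun g =>
    (X.cent a ha (g : G) (Subgroup.mem_centralizer_singleton_iff.1 g.2).symm).choose_spec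
  refine ⟨MonoidHom.mk' f fun g g' => hu (hf (g * g')) ?_, fun g q h => hu (hf g) h⟩
  have hc : ∀ q : Q, X.e a ha q * a = a * X.e a ha q := fun q => (X.comm a ha q).eq.symm
  rw [Subgroup.coe_mul, map_mul]
  rcases hf g with h | h <;> rcases hf g' with h' | h' <;> rw [h, h']
  · exact Or.inl rfl
  · exact Or.inr (by rw [← mul_assoc, hc, mul_assoc])
  · exact Or.inr (by rw [mul_assoc])
  · exact Or.inl (by rw [mul_assoc, ← mul_assoc (X.e a ha _) a, hc, ← mul_assoc, ← mul_assoc, X.inv a ha,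
      one_mul])

/-- the coordinate of the image of a common neighbour under a swap -/
noncomputable def flip (σ : G) (x : Q) : Q := X.co ha (σ * (a * X.e a ha x) * σ⁻¹)

include B in
theorem flip_mem (hb : b ∈ perp D a) {σ : G} (hσ : σ ∈ Subgroup.closure D) (h1 : σ * a * σ⁻¹ = b)
    (h2 : σ * b * σ⁻¹ = a) {x : Q} (hx : x ∈ perp E (X.co ha b)) :
    σ * (a * X.e a ha x) * σ⁻¹ ∈ perp₂ D a b ∧ X.flip ha σ x ∈ perp E (X.co ha b) := by
  have hy := X.mul_e_mem ha hx.1
  have hyb : Commute b (a * X.e a ha x) := by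
    rw [← X.co_commute ha hb hy, X.co_mul ha hx.1]; exact hx.2.2
  have hne : a * X.e a ha x ≠ b := fun h => hx.2.1 (by rw [← X.co_mul ha hx.1, h])
  have conjc : ∀ {u v : G}, Commute u v → Commute (σ * u * σ⁻¹) (σ * v * σ⁻¹) := fun h =>
    (commute_conj_iff σ _ _).2 h
  have hm := X.conj_mem hσ hy.1
  have m1 : σ * (a * X.e a ha x) * σ⁻¹ ∈ perp D a :=
    ⟨hm, fun h => hne (mul_left_cancel (mul_right_cancel (h.trans h2.symm))),
      by have := conjc hyb; rwa [h2] at this⟩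
  have m2 : σ * (a * X.e a ha x) * σ⁻¹ ∈ perp D b :=
    ⟨hm, fun h => hy.2.1 (mul_left_cancel (mul_right_cancel (h.trans h1.symm))),
      by have := conjc hy.2.2; rwa [h1] at this⟩
  refine ⟨⟨m1, m2⟩, X.co_mem ha m1, fun h => ?_, (X.co_commute ha hb m1).2 m2.2.2⟩
  exact m2.2.1 (X.co_inj ha m1 hb h)

include B in
/-- the automorphism of the model induced by a swap; it is not inner -/
theorem exists_outer (hb : b ∈ perp D a) {s : Q} (hs : s ∈ E) (hsdef : s = X.co ha b) {σ : G} (hσ : σ ∈ Subgroup.closure D)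
    (h1 : σ * a * σ⁻¹ = b) (h2 : σ * b * σ⁻¹ = a) :
    ∃ α : MulAut Q₂, α ∉ (MulAut.conj (G := Q₂)).range ∧
      ∀ x ∈ perp E s, α (B.S.f hs x) = B.S.f hs (X.flip ha σ x) := by
  subst hsdef
  set s := X.co ha b with hsdef
  set C := Subgroup.closure (perp E s) with hC
  obtain ⟨π, hπ⟩ := X.exists_part ha
  have hCs : ∀ c ∈ C, Commute s c := fun c hc => commute_closure (fun y hy => hy.2.2) c hc
  have hbe : b = a * X.e a ha s := (X.co_spec ha hb).2
  have hcb : ∀ c ∈ C, Commute b (X.e a ha c) := fun c hc => by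
    rw [hbe]; exact (X.comm a ha c).mul_left ((hCs c hc).map (X.e a ha))
  have conjc : ∀ {u v : G}, Commute u v → Commute (σ * u * σ⁻¹) (σ * v * σ⁻¹) := fun h =>
    (commute_conj_iff σ _ _).2 h
  let Φ : ↥C →* ↥(Subgroup.centralizer ({a} : Set G)) :=
    MonoidHom.mk' (fun c => ⟨σ * X.e a ha (c : Q) * σ⁻¹, Subgroup.mem_centralizer_singleton_iff.2
      (by have := conjc (hcb _ c.2); rw [h2] at this; exact this.symm.eq)⟩) fun c c' => Subtype.ext (by
        show σ * X.e a ha ((c * c' : ↥C) : Q) * σ⁻¹ =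
          σ * X.e a ha (c : Q) * σ⁻¹ * (σ * X.e a ha (c' : Q) * σ⁻¹)
        rw [Subgroup.coe_mul, map_mul]; group)
  -- images stay in the centraliser of `s`
  have hΦC : ∀ c : ↥C, π (Φ c) ∈ C := fun c => by
    suffices hh : π (Φ c) ∈ Subgroup.centralizer ({s} : Set Q) by
      rw [← B.rank.centralizer s hs] at hh; exact hh
    rw [Subgroup.mem_centralizer_singleton_iff]
    have hcomm : Commute (Φ c : G) b := (by have := conjc (X.comm a ha (c : Q)); rw [h1] at this; exact this.symm)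
    have hbc : b ∈ Subgroup.centralizer ({a} : Set G) :=
      Subgroup.mem_centralizer_singleton_iff.2 hb.2.2.symm.eq
    have hπb : π ⟨b, hbc⟩ = s := hπ _ s (Or.inr hbe)
    rw [← hπb]
    exact ((show Commute (Φ c) ⟨b, hbc⟩ from Subtype.ext hcomm).map π).eq
  let π₂ := (B.S.loc s hs).π
  let Ψ : ↥C →* Q₂ := π₂.comp ((π.comp Φ).codRestrict C hΦC)
  -- values on the generators
  have hgen : ∀ x (hx : x ∈ perp E s), Ψ ⟨x, Subgroup.subset_closure hx⟩ = B.S.f hs (X.flip ha σ x) := by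
    intro x hx
    obtain ⟨hm, hfl⟩ := X.flip_mem B ha hb hσ h1 h2 hx
    have hval : (Φ ⟨x, Subgroup.subset_closure hx⟩ : G) = X.e a ha (s * X.flip ha σ x) := by
      show σ * X.e a ha x * σ⁻¹ = _
      have hy := (X.co_spec ha hm.1).2
      have e1 : X.e a ha x = a * (a * X.e a ha x) := by rw [← mul_assoc, X.inv a ha, one_mul]
      rw [e1, show σ * (a * (a * X.e a ha x)) * σ⁻¹ = (σ * a * σ⁻¹) * (σ * (a * X.e a ha x) * σ⁻¹) by group,
        h1, hbe, map_mul, flip]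
      conv_lhs => rw [hy]
      rw [mul_assoc a, ← mul_assoc (X.e a ha s) a, ← (X.comm a ha s).eq, ← mul_assoc, ← mul_assoc,
        X.inv a ha, one_mul]
    have e2 : ((π.comp Φ).codRestrict C hΦC ⟨x, Subgroup.subset_closure hx⟩ : Q) = s * X.flip ha σ x :=
      hπ _ _ (Or.inl hval)
    have hsC : s ∈ C := B.pinned.self s hs
    have hfC : X.flip ha σ x ∈ C := Subgroup.subset_closure hfl
    show π₂ _ = _
    rw [show ((π.comp Φ).codRestrict C hΦC) ⟨x, Subgroup.subset_closure hx⟩ =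
      (⟨s * X.flip ha σ x, mul_mem hsC hfC⟩ : ↥C) from Subtype.ext e2,
      ← B.S.f_eq hs (mul_mem hsC hfC), B.S.f_mul hs hsC hfC]
    have : B.S.f hs s = 1 := by
      rw [← B.S.f_one hs, B.S.f_eq_iff hs hsC (one_mem _)]
      exact fun u hu => by rw [mul_one]; exact hu.2.2.symm.inv_right
    rw [this, one_mul]
  have hker : π₂.ker ≤ Ψ.ker := by
    intro c hc
    rw [(B.S.loc s hs).ker] at hc
    rcases B.S.center_perp M23Data.small hs c.2 (fun y hy => by
      exact congrArg Subtype.val (Subgroup.mem_center_iff.1 hc ⟨y, Subgroup.subset_closure hy⟩)) with h | h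
    · rw [show c = 1 from Subtype.ext h]; exact one_mem _
    · rw [MonoidHom.mem_ker]
      have hbc : b ∈ Subgroup.centralizer ({a} : Set G) :=
        Subgroup.mem_centralizer_singleton_iff.2 hb.2.2.symm.eq
      have hval : (Φ c : G) = X.e a ha s := by
        show σ * X.e a ha (c : Q) * σ⁻¹ = _
        rw [h, show X.e a ha s = a * b by rw [hbe, ← mul_assoc, X.inv a ha, one_mul],
          show σ * (a * b) * σ⁻¹ = (σ * a * σ⁻¹) * (σ * b * σ⁻¹) by group, h1, h2]
        exact hb.2.2.symm.eq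
      have e2 : ((π.comp Φ).codRestrict C hΦC c : Q) = s := hπ _ _ (Or.inl hval)
      show π₂ _ = 1
      rw [← MonoidHom.mem_ker, (B.S.loc s hs).ker, Subgroup.mem_center_iff]
      intro g
      exact Subtype.ext (by
        show (g : Q) * _ = _ * (g : Q)
        rw [e2]; exact (hCs _ g.2).symm.eq)
  let α₀ : Q₂ →* Q₂ := MonoidHom.liftOfSurjective π₂ (B.S.loc s hs).surj ⟨Ψ, hker⟩
  have hα : ∀ c : ↥C, α₀ (π₂ c) = Ψ c := fun c =>
    MonoidHom.liftOfRightInverse_comp_apply _ _ _ ⟨Ψ, hker⟩ c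
  have hfx : ∀ x (hx : x ∈ perp E s), α₀ (B.S.f hs x) = B.S.f hs (X.flip ha σ x) := fun x hx => by
    rw [B.S.f_eq hs (Subgroup.subset_closure hx), hα, hgen x hx]
  -- surjectivity from the class
  have hsurj : Function.Surjective α₀ := by
    rw [← MonoidHom.range_eq_top, eq_top_iff, ← B.S.rank.hD.2.2, Subgroup.closure_le]
    have hinj : Set.InjOn (X.flip ha σ) (perp E s) := fun x hx y hy h => by
      have := X.co_inj ha (X.flip_mem B ha hb hσ h1 h2 hx).1.1 (X.flip_mem B ha hb hσ h1 h2 hy).1.1 h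
      exact X.inj a ha (mul_left_cancel (mul_left_cancel (mul_right_cancel this)))
    have himg : X.flip ha σ '' perp E s = perp E s :=
      Set.eq_of_subset_of_ncard_le (Set.image_subset_iff.2 fun x hx => (X.flip_mem B ha hb hσ h1 h2 hx).2)
        (by rw [hinj.ncard_image]) (Set.toFinite _)
    intro t ht
    obtain ⟨y, hy, rfl⟩ := B.S.exists_f hs ht
    rw [← himg] at hy
    obtain ⟨x, hx, rfl⟩ := hy
    exact ⟨_, hfx x hx⟩
  let α : MulAut Q₂ := MulEquiv.ofBijective α₀ ⟨(Finite.injective_iff_surjective).2 hsurj, hsurj⟩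
  refine ⟨α, ?_, hfx⟩
  rintro ⟨hbar, hh⟩
  obtain ⟨h, hhC, rfl⟩ := B.S.exists_f_closure hs hbar
  have hact : ∀ x ∈ perp E s, X.flip ha σ x = h * x * h⁻¹ := fun x hx => by
    refine B.S.f_inj hs (X.flip_mem B ha hb hσ h1 h2 hx).2
      (conj_mem_of_mem_closure (perp_closed B.hD s) hhC x hx) ?_
    rw [B.S.f_conj hs hhC (Subgroup.subset_closure hx), ← hfx x hx]
    exact (DFunLike.congr_fun hh _).symm
  set τ := (X.e a ha h)⁻¹ * σ with hτdef
  have hfix : ∀ x ∈ perp E s, Commute τ (a * X.e a ha x) := fun x hx => by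
    obtain ⟨hm, -⟩ := X.flip_mem B ha hb hσ h1 h2 hx
    have e1 : σ * (a * X.e a ha x) * σ⁻¹ = a * X.e a ha (h * x * h⁻¹) := by
      rw [(X.co_spec ha hm.1).2]; exact congrArg (fun q => a * X.e a ha q) (hact x hx)
    show τ * _ = _ * τ
    refine mul_inv_eq_iff_eq_mul.1 ?_
    rw [hτdef, show (X.e a ha h)⁻¹ * σ * (a * X.e a ha x) * ((X.e a ha h)⁻¹ * σ)⁻¹ =
      (X.e a ha h)⁻¹ * (σ * (a * X.e a ha x) * σ⁻¹) * X.e a ha h by group, e1, map_mul, map_mul, map_inv,
      ← mul_assoc, ((X.comm a ha h).inv_right).eq.symm]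
    group
  obtain ⟨L, hlen, hL, hprod⟩ := B.exists_seven hs
  have hlist : ∀ M : List Q, (M.map fun x => a * X.e a ha x).prod = a ^ M.length * X.e a ha M.prod := by
    intro M
    induction M with
    | nil => simp
    | cons x M ih =>
      rw [List.map_cons, List.prod_cons, ih, List.prod_cons, map_mul, List.length_cons, pow_succ',
        mul_assoc a, ← mul_assoc (X.e a ha x), ((X.comm a ha x).pow_left M.length).eq.symm]
      simp only [mul_assoc]
  have ha7 : (L.map fun x => a * X.e a ha x).prod = a := by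
    have h2a : a ^ 2 = 1 := by rw [sq, X.inv a ha]
    rw [hlist, hprod, map_one, mul_one, hlen, show 7 = 2 * 3 + 1 from rfl, pow_succ, pow_mul, h2a, one_pow,
      one_mul]
  have hτa : Commute τ a := by
    rw [← ha7]
    refine Commute.list_prod_right _ _ fun y hy => ?_
    obtain ⟨x, hx, rfl⟩ := List.mem_map.1 hy
    exact hfix x (hL x hx)
  refine hb.2.1 ?_
  calc b = τ * a * τ⁻¹ := by
        rw [hτdef, show (X.e a ha h)⁻¹ * σ * a * ((X.e a ha h)⁻¹ * σ)⁻¹ =
          (X.e a ha h)⁻¹ * (σ * a * σ⁻¹) * X.e a ha h by group, h1, mul_assoc, (hcb h hhC).eq,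
          inv_mul_cancel_left]
    _ = a := by rw [hτa.eq, mul_inv_cancel_right]

end Space

/-- an edge of one space glued to an edge of another with the same coordinates -/
structure Glue {G' : Type w} [Group G'] {D' : Set G'} (X : Space D E) (X' : Space D' E) {a : G} (ha : a ∈ D)
    {a' : G'} (ha' : a' ∈ D') (b : G) (b' : G') where
  ψ : G → G'
  maps : ∀ y ∈ perp D b, ψ y ∈ perp D' b'
  onto : ∀ z ∈ perp D' b', ∃ y ∈ perp D b, ψ y = z
  injOn : Set.InjOn ψ (perp D b)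
  comm : ∀ y ∈ perp D b, ∀ z ∈ perp D b, (Commute (ψ y) (ψ z) ↔ Commute y z)
  braid : ∀ y ∈ perp D b, ∀ z ∈ perp D b, ψ (y * z * y) = ψ y * ψ z * ψ y
  left : ψ a = a'
  agree : ∀ y ∈ perp₂ D a b, ψ y = a' * X'.e a' ha' (X.co ha y)

theorem exists_glue {G' : Type w} [Group G'] {D' : Set G'} (X : Space D E) (X' : Space D' E)
    (B : Base23 E E₂ F) (hidx : (MulAut.conj (G := Q₂)).range.index = 2) {a : G} (ha : a ∈ D) {a' : G'}
    (ha' : a' ∈ D') {b : G} (hb : b ∈ perp D a) {b' : G'} (hb' : b' ∈ perp D' a')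
    (heq : X'.co ha' b' = X.co ha b) : Nonempty (Glue X X' ha ha' b b') := by
  set s := X.co ha b with hsdef
  have hs : s ∈ E := X.co_mem ha hb
  obtain ⟨σ, hσ, s1, s2⟩ := X.exists_swap B ha hb
  obtain ⟨σ', hσ', t1, t2⟩ := X'.exists_swap B ha' hb'
  obtain ⟨α, hα, hαf⟩ := X.exists_outer B ha hb hs hsdef hσ s1 s2
  obtain ⟨α', hα', hαf'⟩ := X'.exists_outer B ha' hb' hs heq.symm hσ' t1 t2
  have hin : α * α'⁻¹ ∈ (MulAut.conj (G := Q₂)).range := by
    rw [Subgroup.mul_mem_iff_of_index_two hidx, inv_mem_iff]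
    exact iff_of_false hα hα'
  obtain ⟨hbar, hh⟩ := hin
  obtain ⟨h, hhC, rfl⟩ := B.S.exists_f_closure hs hbar
  have hrel : ∀ x ∈ perp E s, X.flip ha σ x = h * X'.flip ha' σ' x * h⁻¹ := fun x hx => by
    have hx' : x ∈ perp E (X'.co ha' b') := by rw [heq]; exact hx
    have hm : X'.flip ha' σ' x ∈ perp E s := heq ▸ (X'.flip_mem B ha' hb' hσ' t1 t2 hx').2
    refine B.S.f_inj hs (X.flip_mem B ha hb hσ s1 s2 hx).2
      (conj_mem_of_mem_closure (perp_closed B.hD s) hhC _ hm) ?_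
    rw [B.S.f_conj hs hhC (Subgroup.subset_closure hm), ← hαf x hx, ← hαf' x hx]
    have e := DFunLike.congr_fun hh (α' (B.S.f hs x))
    simp only [MulAut.conj_apply, MulAut.mul_apply, MulAut.inv_apply_self] at e
    exact e.symm
  have hsh : Commute s h := commute_closure (fun y hy => hy.2.2) h hhC
  -- the glueing map
  let ψ : G → G' := fun y =>
    σ'⁻¹ * (a' * X'.e a' ha' (h⁻¹ * X.co ha (σ * y * σ⁻¹) * h)) * σ'
  have hψ : ∀ y, ψ y = σ'⁻¹ * (a' * X'.e a' ha' (h⁻¹ * X.co ha (σ * y * σ⁻¹) * h)) * σ' := fun _ => rfl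
  have toA : ∀ y, y ∈ perp D b → σ * y * σ⁻¹ ∈ perp D a := fun y hy =>
    ⟨X.conj_mem hσ hy.1, fun h' => hy.2.1 (mul_left_cancel (mul_right_cancel (h'.trans s2.symm))), s2 ▸ (commute_conj_iff σ b y).2 hy.2.2⟩
  have hE : ∀ t ∈ E, h⁻¹ * t * h ∈ E := fun t ht => by simpa using B.hD.2.1 h⁻¹ t ht
  have hσ'a : σ'⁻¹ * a' * σ' = b' := by rw [← t2]; group
  have hσa : σ⁻¹ * a * σ = b := by rw [← s2]; group
  have commi : ∀ {u v : G'}, Commute u v → Commute (σ'⁻¹ * u * σ') (σ'⁻¹ * v * σ') := fun {u v} h' => by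
    simpa using (commute_conj_iff σ'⁻¹ u v).2 h'
  refine ⟨⟨ψ, ?_, ?_, ?_, ?_, ?_, ?_, ?_⟩⟩
  · intro y hy
    have hz := X'.mul_e_mem ha' (hE _ (X.co_mem ha (toA y hy)))
    rw [hψ]
    refine ⟨by simpa using X'.conj_mem (inv_mem hσ') hz.1, fun h' => hz.2.1 ?_, hσ'a ▸ commi hz.2.2⟩
    have := congrArg (fun v => σ' * v * σ'⁻¹) h'
    simpa [hψ, mul_assoc, ← hσ'a] using this
  · intro z hz
    have hz' : σ' * z * σ'⁻¹ ∈ perp D' a' :=
      ⟨X'.conj_mem hσ' hz.1, fun h' => hz.2.1 (mul_left_cancel (mul_right_cancel (h'.trans t2.symm))), t2 ▸ (commute_conj_iff σ' b' z).2 hz.2.2⟩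
    have ht : h * X'.co ha' (σ' * z * σ'⁻¹) * h⁻¹ ∈ E := B.hD.2.1 h _ (X'.co_mem ha' hz')
    have hy := X.mul_e_mem ha ht
    have hyb : σ⁻¹ * (a * X.e a ha (h * X'.co ha' (σ' * z * σ'⁻¹) * h⁻¹)) * σ ∈ perp D b := by
      refine ⟨by simpa using X.conj_mem (inv_mem hσ) hy.1, fun h' => hy.2.1 ?_, ?_⟩
      · have := congrArg (fun v => σ * v * σ⁻¹) h'
        simpa [mul_assoc, ← hσa] using this
      · rw [← hσa]; simpa using (commute_conj_iff σ⁻¹ _ _).2 hy.2.2
    refine ⟨_, hyb, ?_⟩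
    simp only [hψ]
    rw [show σ * (σ⁻¹ * (a * X.e a ha (h * X'.co ha' (σ' * z * σ'⁻¹) * h⁻¹)) * σ) * σ⁻¹ =
        a * X.e a ha (h * X'.co ha' (σ' * z * σ'⁻¹) * h⁻¹) by group, X.co_mul ha ht,
      show h⁻¹ * (h * X'.co ha' (σ' * z * σ'⁻¹) * h⁻¹) * h = X'.co ha' (σ' * z * σ'⁻¹) by group,
      ← (X'.co_spec ha' hz').2]
    group
  · intro y hy z hz he
    simp only [hψ, mul_left_inj, mul_right_inj, (X'.inj a' ha').eq_iff] at he
    have := X.co_inj ha (toA y hy) (toA z hz) he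
    exact mul_left_cancel (mul_right_cancel this)
  · intro y hy z hz
    have e : ∀ v, ψ v = MulAut.conj σ'⁻¹ (a' * X'.e a' ha' (h⁻¹ * X.co ha (σ * v * σ⁻¹) * h)) := fun v => by
      simp [hψ]
    have my := X'.mul_e_mem ha' (hE _ (X.co_mem ha (toA y hy)))
    have mz := X'.mul_e_mem ha' (hE _ (X.co_mem ha (toA z hz)))
    rw [e, e, commute_conj_iff, ← X'.co_commute ha' my mz,
      X'.co_mul ha' (hE _ (X.co_mem ha (toA y hy))), X'.co_mul ha' (hE _ (X.co_mem ha (toA z hz)))]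
    have e2 : ∀ v : Q, h⁻¹ * v * h = MulAut.conj h⁻¹ v := fun v => by simp
    rw [e2, e2, commute_conj_iff, X.co_commute ha (toA y hy) (toA z hz)]
    exact commute_conj_iff σ y z
  · intro y hy z hz
    have my := X'.mul_e_mem ha' (hE _ (X.co_mem ha (toA y hy)))
    have mz := X'.mul_e_mem ha' (hE _ (X.co_mem ha (toA z hz)))
    obtain ⟨hm', hco'⟩ := X'.co_braid ha' B.hD my mz
    obtain ⟨hm, hco⟩ := X.co_braid ha B.hD (toA y hy) (toA z hz)
    simp only [hψ]
    rw [show σ * (y * z * y) * σ⁻¹ = σ * y * σ⁻¹ * (σ * z * σ⁻¹) * (σ * y * σ⁻¹) by group, hco]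
    rw [X'.co_mul ha' (hE _ (X.co_mem ha (toA y hy))), X'.co_mul ha' (hE _ (X.co_mem ha (toA z hz)))] at hco'
    have e3 := (X'.co_spec ha' hm').2
    rw [hco', show h⁻¹ * X.co ha (σ * y * σ⁻¹) * h * (h⁻¹ * X.co ha (σ * z * σ⁻¹) * h) *
      (h⁻¹ * X.co ha (σ * y * σ⁻¹) * h) = h⁻¹ * (X.co ha (σ * y * σ⁻¹) * X.co ha (σ * z * σ⁻¹) *
      X.co ha (σ * y * σ⁻¹)) * h by group] at e3
    rw [← e3]
    group
  · have hba : σ * a * σ⁻¹ = b := s1
    simp only [hψ]
    rw [hba, ← hsdef, show h⁻¹ * s * h = s by rw [mul_assoc, hsh.eq, inv_mul_cancel_left],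
      ← heq, ← (X'.co_spec ha' hb').2, ← t1]
    group
  · intro y hy
    set x := X.co ha y with hxdef
    have hx : x ∈ perp E s := ⟨X.co_mem ha hy.1, fun h' => hy.2.2.1 (X.co_inj ha hy.1 hb h'),
      (X.co_commute ha hb hy.1).2 hy.2.2.2⟩
    have hx' : x ∈ perp E (X'.co ha' b') := by rw [heq]; exact hx
    obtain ⟨hm, -⟩ := X'.flip_mem B ha' hb' hσ' t1 t2 hx'
    have e1 : X.co ha (σ * y * σ⁻¹) = X.flip ha σ x := by
      simp only [Space.flip, hxdef, ← (X.co_spec ha hy.1).2]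
    simp only [hψ]
    rw [e1, hrel x hx, show h⁻¹ * (h * X'.flip ha' σ' x * h⁻¹) * h = X'.flip ha' σ' x by group, Space.flip,
      ← (X'.co_spec ha' hm.1).2]
    group

end Cfsg.Agent.Lib.FischerTop83
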