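import Mathlib
import Cfsg.Agent.Lib.FischerTop83.Auto

/-!
Components of the common neighbours of a non-commuting pair are carried from one space to another.
-/

set_option autoImplicit false
set_option linter.style.haveILetI false
set_option linter.unusedSectionVars false

namespace Cfsg.Agent.Lib.FischerTop83

open Cfsg.Agent.Lib.FischerMTypes.Basic Cfsg.Agent.Lib.FischerMTypes.Primitive
  Cfsg.Agent.Lib.FischerMTypes.Step Cfsg.Agent.Lib.FischerMTypes

universe u v w

/-- the connected component of `c` in the commuting graph on `U` -/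
def comp {G : Type u} [Group G] (U : Set G) (c : G) : Set G :=
  {y | Relation.ReflTransGen (fun p q => p ∈ U ∧ q ∈ U ∧ q ≠ p ∧ Commute p q) c y}

theorem mem_comp_self {G : Type u} [Group G] (U : Set G) (c : G) : c ∈ comp U c :=
  Relation.ReflTransGen.refl

theorem comp_subset {G : Type u} [Group G] {U : Set G} {c y : G} (hc : c ∈ U) (h : y ∈ comp U c) : y ∈ U := by
  rcases Relation.ReflTransGen.cases_tail h with rfl | ⟨b, -, hb⟩
  · exact hc
  · exact hb.2.1

theorem comp_step {G : Type u} [Group G] {U : Set G} {c p q : G} (h : p ∈ comp U c) (hp : p ∈ U) (hq : q ∈ U)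
    (hpq : Commute p q) : q ∈ comp U c := by
  by_cases he : q = p
  · rw [he]; exact h
  · exact Relation.ReflTransGen.tail h ⟨hp, hq, he, hpq⟩

theorem comp_symm {G : Type u} [Group G] {U : Set G} {c y : G} (h : y ∈ comp U c) : c ∈ comp U y := by
  induction h with
  | refl => exact Relation.ReflTransGen.refl
  | tail _ hbc ih => exact Relation.ReflTransGen.head ⟨hbc.2.1, hbc.1, hbc.2.2.1.symm, hbc.2.2.2.symm⟩ ih

theorem comp_eq_of_mem {G : Type u} [Group G] {U : Set G} {c y : G} (h : y ∈ comp U c) :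
    comp U y = comp U c :=
  Set.ext fun _ => ⟨fun hz => Relation.ReflTransGen.trans h hz,
    fun hz => Relation.ReflTransGen.trans (comp_symm h) hz⟩

variable {G : Type u} [Group G] {D : Set G} {Q : Type v} [Group Q] [Finite Q] {E : Set Q}
  {Q₂ : Type v} [Group Q₂] [Finite Q₂] {E₂ : Set Q₂} {F : Type} [Field F] [Fintype F]
  {G' : Type w} [Group G'] {D' : Set G'}

namespace Space

variable (X : Space D E) (B : Base23 E E₂ F)

include X B in
/-- two far points seeing the same neighbours next to a given one lie on one line -/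
theorem line_near {a p q k₁ k₂ : G} (hp : p ∈ D) (hq : q ∈ D) (hap : a ∈ perp D p) (haq : a ∈ perp D q)
    (hpq : p ∈ perp D q) (h1p : k₁ ∈ perp D p) (h1q : k₁ ∈ perp D q) (h2p : k₂ ∈ perp D p)
    (h2q : k₂ ∈ perp D q) (hn : ¬ Commute a k₁) (hn2 : ¬ Commute a k₂)
    (h : ∀ y ∈ perp₂ D a q, y ≠ p → Commute p y → Commute k₁ y → Commute k₂ y) :
    k₂ = k₁ ∨ k₂ = a * k₁ * a := by
  have hmem : ∀ {v : G}, v ∈ perp D q → v ∈ perp D p → X.co hq v ∈ perp E (X.co hq p) := fun {v} hv hv' =>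
    ⟨X.co_mem hq hv, fun he => hv'.2.1 (X.co_inj hq hv hpq he), (X.co_commute hq hpq hv).2 hv'.2.2⟩
  have hax : ¬ Commute (X.co hq a) (X.co hq k₁) := fun hc => hn ((X.co_commute hq haq h1q).1 hc)
  rcases B.S.toPreStep.line_points (X.co_mem hq hpq) (hmem haq hap) (hmem h1q h1p) (hmem h2q h2p) hax
      (fun w hw hwa hwk => by
        have hy := X.mul_e_mem hq hw.1
        have cw := X.co_mul hq hw.1
        have hyp : Commute p (q * X.e q hq w) := by
          rw [← X.co_commute hq hpq hy, cw]; exact hw.2.2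
        have hya : Commute a (q * X.e q hq w) := by rw [← X.co_commute hq haq hy, cw]; exact hwa
        have hyk : Commute k₁ (q * X.e q hq w) := by rw [← X.co_commute hq h1q hy, cw]; exact hwk
        have hne : q * X.e q hq w ≠ p := fun he => hw.2.1 (by rw [← cw, he])
        have hne' : q * X.e q hq w ≠ a := fun he => hn (he ▸ hyk).symm
        rw [← cw, X.co_commute hq h2q hy]
        exact h _ ⟨⟨hy.1, hne', hya⟩, hy⟩ hne hyp hyk) with e | e | e
  · exact absurd ((X.co_inj hq h2q haq e) ▸ Commute.refl a) hn2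
  · exact Or.inl (X.co_inj hq h2q h1q e)
  · obtain ⟨hm, hco⟩ := X.co_braid hq B.hD haq h1q
    exact Or.inr (X.co_inj hq h2q hm (e.trans hco.symm))

end Space

/-- `k` and `k'` have corresponding neighbours next to `p` -/
def Match (X : Space D E) (X' : Space D' E) {a : G} (ha : a ∈ D) {a' : G'} (ha' : a' ∈ D') (p k : G)
    (k' : G') : Prop :=
  k ∈ perp D p ∧ k' ∈ perp D' (a' * X'.e a' ha' (X.co ha p)) ∧
    ∀ y ∈ perp₂ D a p, (Commute k y ↔ Commute k' (a' * X'.e a' ha' (X.co ha y)))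

section transfer

variable (X : Space D E) (X' : Space D' E) {a : G} (ha : a ∈ D) {a' : G'} (ha' : a' ∈ D')

theorem iota_mem {y : G} (hy : y ∈ perp D a) : a' * X'.e a' ha' (X.co ha y) ∈ perp D' a' :=
  X'.mul_e_mem ha' (X.co_mem ha hy)

theorem iota_co {y : G} (hy : y ∈ perp D a) :
    X'.co ha' (a' * X'.e a' ha' (X.co ha y)) = X.co ha y :=
  X'.co_mul ha' (X.co_mem ha hy)

theorem iota_inv {y : G} (hy : y ∈ perp D a) :
    a * X.e a ha (X'.co ha' (a' * X'.e a' ha' (X.co ha y))) = y := by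
  rw [iota_co X X' ha ha' hy, ← (X.co_spec ha hy).2]

theorem iota_commute {y z : G} (hy : y ∈ perp D a) (hz : z ∈ perp D a) :
    Commute (a' * X'.e a' ha' (X.co ha y)) (a' * X'.e a' ha' (X.co ha z)) ↔ Commute y z := by
  rw [← X'.co_commute ha' (iota_mem X X' ha ha' hy) (iota_mem X X' ha ha' hz), iota_co X X' ha ha' hy,
    iota_co X X' ha ha' hz, X.co_commute ha hy hz]

theorem iota_mem_perp₂ {p y : G} (hp : p ∈ perp D a) (hy : y ∈ perp₂ D a p) :
    a' * X'.e a' ha' (X.co ha y) ∈ perp₂ D' a' (a' * X'.e a' ha' (X.co ha p)) := by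
  refine ⟨iota_mem X X' ha ha' hy.1, (iota_mem X X' ha ha' hy.1).1, fun he => hy.2.2.1 ?_,
    (iota_commute X X' ha ha' hp hy.1).2 hy.2.2.2⟩
  rw [← iota_inv X X' ha ha' hy.1, he, iota_inv X X' ha ha' hp]

theorem Match.symm {p k : G} {k' : G'} (hp : p ∈ perp D a) (h : Match X X' ha ha' p k k') :
    Match X' X ha' ha (a' * X'.e a' ha' (X.co ha p)) k' k := by
  refine ⟨h.2.1, by rw [iota_inv X X' ha ha' hp]; exact h.1, fun y' hy' => ?_⟩
  have hy := iota_mem_perp₂ X' X ha' ha (iota_mem X X' ha ha' hp) hy'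
  rw [iota_inv X X' ha ha' hp] at hy
  rw [h.2.2 _ hy, iota_inv X' X ha' ha hy'.1]

variable (B : Base23 E E₂ F) (hidx : (MulAut.conj (G := Q₂)).range.index = 2)

include B hidx in
/-- every far pair of the target has a matched one in the source -/
theorem exists_match {c : G} (hc : c ∈ perp D a) {k' : G'}
    (hk' : k' ∈ perp D' (a' * X'.e a' ha' (X.co ha c))) (hn : ¬ Commute a' k') :
    ∃ k, Match X X' ha ha' c k k' ∧ ¬ Commute a k := by
  obtain ⟨Gl⟩ := exists_glue X X' B hidx ha ha' hc (iota_mem X X' ha ha' hc) (iota_co X X' ha ha' hc)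
  obtain ⟨k, hk, rfl⟩ := Gl.onto k' hk'
  have hac : a ∈ perp D c := ⟨ha, Ne.symm hc.2.1, hc.2.2.symm⟩
  refine ⟨k, ⟨hk, hk', fun y hy => ?_⟩, fun h => hn ?_⟩
  · rw [← Gl.agree y hy, Gl.comm k hk y hy.2]
  · have := (Gl.comm a hac k hk).2 h
    rwa [Gl.left] at this

include B hidx in
/-- the matching passes to commuting common neighbours -/
theorem Match.step {p q k : G} {k' : G'} (hp : p ∈ perp D a) (hq : q ∈ perp₂ D a p)
    (hkq : Commute k q) (hn : ¬ Commute a k) (hn' : ¬ Commute a' k') (h : Match X X' ha ha' p k k') :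
    Match X X' ha ha' q k k' := by
  set p' := a' * X'.e a' ha' (X.co ha p) with hp'def
  set q' := a' * X'.e a' ha' (X.co ha q) with hq'def
  obtain ⟨Gl⟩ := exists_glue X X' B hidx ha ha' hq.1 (iota_mem X X' ha ha' hq.1) (iota_co X X' ha ha' hq.1)
  have hpq : p ∈ perp D q := ⟨hp.1, hq.2.2.1.symm, hq.2.2.2.symm⟩
  have haq : a ∈ perp D q := ⟨ha, Ne.symm hq.1.2.1, hq.1.2.2.symm⟩
  have hk : k ∈ perp D q := ⟨h.1.1, fun he => hn (he ▸ hq.1.2.2), hkq.symm⟩
  have hp2 : p ∈ perp₂ D a q := ⟨hp, hpq⟩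
  set k'' := Gl.ψ k with hk''def
  have hk''q : k'' ∈ perp D' q' := Gl.maps k hk
  have hn'' : ¬ Commute a' k'' := fun hc => hn ((Gl.comm a haq k hk).1 (by rw [Gl.left]; exact hc))
  have hp'q : p' ∈ perp D' q' := (iota_mem_perp₂ X X' ha ha' hq.1 hp2).2
  have hk''p : k'' ∈ perp D' p' := by
    refine ⟨hk''q.1, fun he => hn'' (he ▸ (iota_mem X X' ha ha' hp).2.2), ?_⟩
    rw [hp'def, ← Gl.agree p hp2]
    exact (Gl.comm p hpq k hk).2 h.1.2.2
  have hk'p : k' ∈ perp D' p' := h.2.1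
  have hk'q : k' ∈ perp D' q' :=
    ⟨hk'p.1, fun he => hn' (he ▸ (iota_mem X X' ha ha' hq.1).2.2), ((h.2.2 q hq).1 hkq).symm⟩
  have hline := X'.line_near B (a := a') (p := p') (q := q') (k₁ := k'') (k₂ := k')
    (iota_mem X X' ha ha' hp).1 (iota_mem X X' ha ha' hq.1).1
    ⟨ha', Ne.symm (iota_mem X X' ha ha' hp).2.1, (iota_mem X X' ha ha' hp).2.2.symm⟩
    ⟨ha', Ne.symm (iota_mem X X' ha ha' hq.1).2.1, (iota_mem X X' ha ha' hq.1).2.2.symm⟩
    hp'q hk''p hk''q hk'p hk'q hn'' hn' (fun y' hy' hne hpy hky => by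
      set y := a * X.e a ha (X'.co ha' y') with hydef
      have hy : y ∈ perp₂ D a q := by
        have := iota_mem_perp₂ X' X ha' ha (iota_mem X X' ha ha' hq.1) hy'
        rwa [iota_inv X X' ha ha' hq.1] at this
      have hback : a' * X'.e a' ha' (X.co ha y) = y' := iota_inv X' X ha' ha hy'.1
      have hyp : y ∈ perp₂ D a p := by
        refine ⟨hy.1, hy.1.1, fun he => hne ?_, ?_⟩
        · rw [← hback, he]
        · rw [← iota_commute X X' ha ha' hp hy.1, hback]; exact hpy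
      rw [← hback, ← h.2.2 y hyp]
      rw [← hback, ← Gl.agree y hy] at hky
      exact (Gl.comm k hk y hy.2).1 hky)
  refine ⟨hk, hk'q, fun y hy => ?_⟩
  have key : Commute k y ↔ Commute k'' (a' * X'.e a' ha' (X.co ha y)) := by
    rw [← Gl.agree y hy, hk''def, Gl.comm k hk y hy.2]
  rcases hline with e | e
  · rw [e]; exact key
  · rw [key, e]
    have hy' := (iota_mem X X' ha ha' hy.1).2.2
    have h1 : a' * k'' * a' = MulAut.conj a' k'' := by
      rw [MulAut.conj_apply, X'.inv_eq ha']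
    have h2 : a' * X'.e a' ha' (X.co ha y) = MulAut.conj a' (a' * X'.e a' ha' (X.co ha y)) := by
      rw [MulAut.conj_apply]; exact (eq_mul_inv_of_mul_eq hy'.eq.symm)
    rw [h1]
    conv_rhs => rw [h2]
    exact (commute_conj_iff a' _ _).symm

include B hidx in
/-- a component goes into the component -/
theorem transfer {c k : G} {k' : G'} (hc : c ∈ perp D a) (hn : ¬ Commute a k) (hn' : ¬ Commute a' k')
    (h : Match X X' ha ha' c k k') {y : G} (hy : y ∈ comp (perp₂ D a k) c) :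
    (y ∈ perp D a ∧ Match X X' ha ha' y k k') ∧
      a' * X'.e a' ha' (X.co ha y) ∈ comp (perp₂ D' a' k') (a' * X'.e a' ha' (X.co ha c)) := by
  have hin : ∀ p, p ∈ perp D a → Match X X' ha ha' p k k' →
      a' * X'.e a' ha' (X.co ha p) ∈ perp₂ D' a' k' := fun p hp hm =>
    ⟨iota_mem X X' ha ha' hp, (iota_mem X X' ha ha' hp).1,
      fun he => hn' (he ▸ (iota_mem X X' ha ha' hp).2.2), hm.2.1.2.2.symm⟩
  induction hy with
  | refl => exact ⟨⟨hc, h⟩, mem_comp_self _ _⟩
  | @tail p q _ hpq ih =>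
    obtain ⟨⟨hp, hm⟩, hcomp⟩ := ih
    obtain ⟨-, hq, hne, hcomm⟩ := hpq
    have hq' : q ∈ perp₂ D a p := ⟨hq.1, hq.1.1, hne, hcomm⟩
    have hm' := Match.step X X' ha ha' B hidx hp hq' hq.2.2.2 hn hn' hm
    exact ⟨⟨hq.1, hm'⟩, comp_step hcomp (hin p hp hm) (hin q hq.1 hm')
      ((iota_commute X X' ha ha' hp hq.1).2 hcomm)⟩

include B hidx in
/-- components correspond -/
theorem comp_image {c k : G} {k' : G'} (hc : c ∈ perp₂ D a k) (hn : ¬ Commute a k) (hn' : ¬ Commute a' k')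
    (h : Match X X' ha ha' c k k') :
    (fun y => a' * X'.e a' ha' (X.co ha y)) '' comp (perp₂ D a k) c =
      comp (perp₂ D' a' k') (a' * X'.e a' ha' (X.co ha c)) := by
  refine Set.Subset.antisymm ?_ fun y' hy' => ?_
  · rintro _ ⟨y, hy, rfl⟩
    exact (transfer X X' ha ha' B hidx hc.1 hn hn' h hy).2
  · obtain ⟨⟨hy'a, -⟩, hback⟩ := transfer X' X ha' ha B hidx (iota_mem X X' ha ha' hc.1) hn' hn
      (Match.symm X X' ha ha' hc.1 h) hy'
    rw [iota_inv X X' ha ha' hc.1] at hback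
    exact ⟨_, hback, iota_inv X' X ha' ha hy'a⟩

theorem iota_injOn : Set.InjOn (fun y => a' * X'.e a' ha' (X.co ha y)) (perp D a) := fun y hy z hz he => by
  rw [← iota_inv X X' ha ha' hy, ← iota_inv X X' ha ha' hz]
  exact congrArg (fun v => a * X.e a ha (X'.co ha' v)) he

end transfer

end Cfsg.Agent.Lib.FischerTop83
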