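import Mathlib
import Cfsg.Agent.Lib.FischerTop83.Fibre
import Cfsg.Agent.Lib.FischerTop83.Bound

/-!
The common neighbours of a far pair with a common neighbour: one fibre or three fibres, and three as soon
as the members commuting with a product of four are not more numerous than in the model.
-/

set_option autoImplicit false
set_option linter.style.haveILetI false
set_option linter.unusedSectionVars false

namespace Cfsg.Agent.Lib.FischerTop83

open Cfsg.Agent.Lib.FischerMTypes.Basic Cfsg.Agent.Lib.FischerMTypes.Primitive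
  Cfsg.Agent.Lib.FischerMTypes.Step Cfsg.Agent.Lib.FischerMTypes

universe u v w

variable {G : Type u} [Group G] {D : Set G} {Q : Type v} [Group Q] [Finite Q] {E : Set Q}
  {Q₂ : Type v} [Group Q₂] [Finite Q₂] {E₂ : Set Q₂} {F : Type} [Field F] [Fintype F]

/-- what is used of the model -/
structure ModelFacts {G' : Type w} [Group G'] {D' : Set G'} (X' : Space D' E) : Prop where
  comp_card : ∀ a ∈ D', ∀ x c : G', x ∈ D' → ¬ Commute a x → c ∈ perp₂ D' a x →
    (comp (perp₂ D' a x) c).ncard = 1080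
  near_in : ∀ a (ha : a ∈ D') (q : Q), IsProd E 3 q → ∀ x ∈ D', Commute (X'.e a ha q) x → ¬ Commute a x →
    ∃ c ∈ perp₂ D' a x, Commute (X'.e a ha q) c
  special : ∃ (a : G') (ha : a ∈ D') (q : Q) (x c₁ c₂ : G'), IsProd E 3 q ∧ x ∈ D' ∧ ¬ Commute a x ∧
    c₁ ∈ perp₂ D' a x ∧ c₂ ∈ perp₂ D' a x ∧ c₂ ∉ comp (perp₂ D' a x) c₁ ∧
    Commute (X'.e a ha q) x ∧ Commute (X'.e a ha q) c₁ ∧ Commute (X'.e a ha q) c₂

namespace Space

variable (X : Space D E) (B : Base23 E E₂ F)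

include X in
theorem mem_perp_of_common {a x p : G} (ha : a ∈ D) (hx : x ∈ D) (hp : p ∈ perp₂ D a x) :
    a ∈ perp D p ∧ x ∈ perp D p :=
  ⟨⟨ha, Ne.symm hp.1.2.1, hp.1.2.2.symm⟩, hx, Ne.symm hp.2.2.1, hp.2.2.2.symm⟩

include X B in
/-- the neighbours inside a trace -/
theorem ncard_trace_nbr {a x p : G} (ha : a ∈ D) (hx : x ∈ D) (hax : ¬ Commute a x) (hp : p ∈ perp₂ D a x) :
    {y | y ∈ perp₂ D a x ∧ (y ≠ p ∧ Commute p y)}.ncard = 351 := by
  obtain ⟨hap, hxp⟩ := X.mem_perp_of_common ha hx hp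
  have hpD := hp.1.1
  have hnc : ¬ Commute (X.co hpD a) (X.co hpD x) := fun h => hax ((X.co_commute hpD hap hxp).1 h)
  rw [← B.rank.trace _ (X.co_mem hpD hap) _ (X.co_mem hpD hxp) hnc]
  refine Set.ncard_congr (fun y _ => X.co hpD y) ?_ ?_ ?_
  · rintro y ⟨hy, hyp, hpy⟩
    have hy' : y ∈ perp D p := ⟨hy.1.1, hyp, hpy⟩
    exact ⟨⟨X.co_mem hpD hy', fun h => hy.1.2.1 (X.co_inj hpD hy' hap h), (X.co_commute hpD hap hy').2 hy.1.2.2⟩,
      X.co_mem hpD hy', fun h => hy.2.2.1 (X.co_inj hpD hy' hxp h), (X.co_commute hpD hxp hy').2 hy.2.2.2⟩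
  · rintro y z ⟨hy, hyp, hpy⟩ ⟨hz, hzp, hpz⟩ h
    exact X.co_inj hpD ⟨hy.1.1, hyp, hpy⟩ ⟨hz.1.1, hzp, hpz⟩ h
  · rintro s ⟨hs, hs'⟩
    have hy := X.mul_e_mem hpD hs.1
    have hc := X.co_mul hpD hs.1
    refine ⟨_, ⟨⟨⟨hy.1, fun h => hs.2.1 ?_, ?_⟩, hy.1, fun h => hs'.2.1 ?_, ?_⟩, hy.2.1, hy.2.2⟩, hc⟩
    · rw [← hc, h]
    · rw [← X.co_commute hpD hap hy, hc]; exact hs.2.2
    · rw [← hc, h]
    · rw [← X.co_commute hpD hxp hy, hc]; exact hs'.2.2

include X B in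
/-- the coordinates of a trace meet the bound -/
theorem trace_le {a x : G} (ha : a ∈ D) (hx : x ∈ D) (hax : ¬ Commute a x) :
    (perp₂ D a x).ncard ≤ 3240 ∧ ((perp₂ D a x).ncard = 3240 →
      ∀ f ∈ perp D a, f ∉ perp₂ D a x → ∃ p ∈ perp₂ D a x, Commute f p) := by
  have hinj : Set.InjOn (X.co ha) (perp₂ D a x) := fun y hy z hz h => X.co_inj ha hy.1 hz.1 h
  have hsub : X.co ha '' perp₂ D a x ⊆ E := by
    rintro _ ⟨y, hy, rfl⟩; exact X.co_mem ha hy.1
  obtain ⟨h1, h2⟩ := trace_bound B hsub (fun s hs => by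
    obtain ⟨p, hp, rfl⟩ := hs
    rw [← X.ncard_trace_nbr B ha hx hax hp,
      ← (hinj.mono fun y (hy : y ∈ {y | y ∈ perp₂ D a x ∧ (y ≠ p ∧ Commute p y)}) => hy.1).ncard_image]
    congr 1
    ext q
    constructor
    · rintro ⟨⟨y, hy, rfl⟩, hne, hc⟩
      exact ⟨y, ⟨hy, fun h => hne (by rw [h]), (X.co_commute ha hp.1 hy.1).1 hc⟩, rfl⟩
    · rintro ⟨y, ⟨hy, hne, hc⟩, rfl⟩
      exact ⟨⟨y, hy, rfl⟩, fun h => hne (hinj hy hp h), (X.co_commute ha hp.1 hy.1).2 hc⟩)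
  rw [hinj.ncard_image] at h1 h2
  refine ⟨h1, fun hn f hf hfn => ?_⟩
  obtain ⟨_, ⟨p, hp, rfl⟩, hfp⟩ := h2 hn _ (X.co_mem ha hf) (fun ⟨y, hy, he⟩ => hfn (X.co_inj ha hy.1 hf he ▸ hy))
  exact ⟨p, hp, (X.co_commute ha hf hp.1).1 hfp⟩

include X in
/-- conjugation by a member of a trace keeps it -/
theorem trace_conj {a x c y : G} (hc : c ∈ perp₂ D a x) (hy : y ∈ perp₂ D a x) :
    c * y * c ∈ perp₂ D a x := by
  have hcD := hc.1.1
  have e : ∀ v, c * v * c = MulAut.conj c v := fun v => by rw [MulAut.conj_apply, X.inv_eq hcD]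
  have key : ∀ {b : G}, Commute b c → y ∈ perp D b → c * y * c ∈ perp D b := by
    intro b hbc hb
    have hb' : c * b * c = b := by rw [hbc.eq.symm, mul_assoc, X.inv c hcD, mul_one]
    refine ⟨X.conj c hcD y hb.1, fun h => hb.2.1 (mul_left_cancel (mul_right_cancel (h.trans hb'.symm))), ?_⟩
    · have h2 : Commute (c * b * c) (c * y * c) := by
        rw [e, e]; exact (commute_conj_iff c b y).2 hb.2.2
      rwa [hb'] at h2
  exact ⟨key hc.1.2.2 hy.1, key hc.2.2.2 hy.2⟩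

include X in
/-- conjugation by a member maps components to components -/
theorem comp_conj {a x c p y : G} (hc : c ∈ perp₂ D a x) (hy : y ∈ comp (perp₂ D a x) p) :
    c * y * c ∈ comp (perp₂ D a x) (c * p * c) := by
  induction hy with
  | refl => exact mem_comp_self _ _
  | @tail u v _ huv ih =>
    refine comp_step ih (X.trace_conj hc huv.1) (X.trace_conj hc huv.2.1) ?_
    have e : ∀ w, c * w * c = MulAut.conj c w := fun w => by rw [MulAut.conj_apply, X.inv_eq hc.1.1]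
    rw [e, e, commute_conj_iff]
    exact huv.2.2.2

include X B in
/-- near pairs with a given first member are conjugate -/
theorem trans_near {a x x' : G} (ha : a ∈ D) (hx : x ∈ D) (hax : ¬ Commute a x) (h : (perp₂ D a x).Nonempty)
    (hx' : x' ∈ D) (hax' : ¬ Commute a x') (h' : (perp₂ D a x').Nonempty) :
    ∃ g ∈ Subgroup.closure D, g * a * g⁻¹ = a ∧ g * x * g⁻¹ = x' := by
  obtain ⟨c, hc⟩ := h
  obtain ⟨c', hc'⟩ := h'
  obtain ⟨r, hr⟩ := B.hprim.1 _ (X.co_mem ha hc.1) _ (X.co_mem ha hc'.1)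
  have hE : ∀ r : Q, ∀ s ∈ E, r * s * r⁻¹ ∈ E := fun r s hs => B.hD.2.1 r s hs
  obtain ⟨m, hm⟩ := X.co_conj ha (g := X.e a ha r) (Or.inl rfl) (hE r) hc.1
  have hgc : X.e a ha r * c * (X.e a ha r)⁻¹ = c' := X.co_inj ha m hc'.1 (hm.trans hr)
  have hga : X.e a ha r * a * (X.e a ha r)⁻¹ = a := by rw [← (X.comm a ha r).eq, mul_inv_cancel_right]
  set g := X.e a ha r
  have hgD : g ∈ Subgroup.closure D := X.e_mem ha B.hD r
  obtain ⟨hac', hxc'⟩ := X.mem_perp_of_common ha hx' hc'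
  have hgx : g * x * g⁻¹ ∈ perp D c' := by
    refine ⟨X.conj_mem hgD hx, fun he => ?_, ?_⟩
    · exact hc.2.2.1 (mul_left_cancel (mul_right_cancel (he.trans hgc.symm))).symm
    · rw [← hgc]; exact (commute_conj_iff g _ _).2 hc.2.2.2.symm
  have hnc : ¬ Commute a (g * x * g⁻¹) := fun hcm => hax (by
    rw [← hga] at hcm; exact (commute_conj_iff g a x).1 hcm)
  obtain ⟨r₂, hr₂, he₂⟩ := B.rank.trans_far _ (X.co_mem hc'.1.1 hac') _ (X.co_mem hc'.1.1 hgx)
    (fun hh => hnc ((X.co_commute _ hac' hgx).1 hh)) _ (X.co_mem hc'.1.1 hxc')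
    (fun hh => hax' ((X.co_commute _ hac' hxc').1 hh))
  have hfix : r₂ * X.co hc'.1.1 a * r₂⁻¹ = X.co hc'.1.1 a := by
    rw [← (Levels.commute_closure (fun s hs => hs.2.2) r₂ hr₂).eq, mul_inv_cancel_right]
  obtain ⟨m₁, h₁⟩ := X.co_conj hc'.1.1 (g := X.e c' hc'.1.1 r₂) (Or.inl rfl) (hE r₂) hac'
  obtain ⟨m₂, h₂⟩ := X.co_conj hc'.1.1 (g := X.e c' hc'.1.1 r₂) (Or.inl rfl) (hE r₂) hgx
  refine ⟨X.e c' hc'.1.1 r₂ * g, mul_mem (X.e_mem _ B.hD _) hgD, ?_, ?_⟩
  · have gen : ∀ u : G, u * g * a * (u * g)⁻¹ = u * (g * a * g⁻¹) * u⁻¹ := fun u => by group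
    exact ((gen _).trans (congrArg (fun v => X.e c' hc'.1.1 r₂ * v * (X.e c' hc'.1.1 r₂)⁻¹) hga)).trans
      (X.co_inj _ m₁ hac' (h₁.trans hfix))
  · refine Eq.trans ?_ (X.co_inj _ m₂ hxc' (h₂.trans he₂))
    group

include X in
/-- conjugating a pair carries its trace -/
theorem ncard_trace_conj {g : G} (hg : g ∈ Subgroup.closure D) (a x : G) :
    (perp₂ D (g * a * g⁻¹) (g * x * g⁻¹)).ncard = (perp₂ D a x).ncard := by
  have key : ∀ b y, y ∈ perp D b → g * y * g⁻¹ ∈ perp D (g * b * g⁻¹) := fun b y hy =>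
    ⟨X.conj_mem hg hy.1, fun he => hy.2.1 (by simpa using he), (commute_conj_iff g b y).2 hy.2.2⟩
  have key' : ∀ b y, y ∈ perp D (g * b * g⁻¹) → g⁻¹ * y * g ∈ perp D b := fun b y hy => by
    refine ⟨by simpa using X.conj_mem (inv_mem hg) hy.1, fun he => hy.2.1 ?_, ?_⟩
    · rw [← he]; group
    · have := (commute_conj_iff g⁻¹ _ _).2 hy.2.2
      simpa [mul_assoc] using this
  have himg : perp₂ D (g * a * g⁻¹) (g * x * g⁻¹) = (fun y => g * y * g⁻¹) '' perp₂ D a x := by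
    ext y
    constructor
    · rintro ⟨h1, h2⟩
      exact ⟨g⁻¹ * y * g, ⟨key' a y h1, key' x y h2⟩, by group⟩
    · rintro ⟨v, ⟨h1, h2⟩, rfl⟩
      exact ⟨key a v h1, key x v h2⟩
  rw [himg, Set.ncard_image_of_injective _ fun u v h => by simpa using h]

end Space

variable {G' : Type w} [Group G'] {D' : Set G'} [Finite G] [Finite G'] (X : Space D E) (X' : Space D' E)
  (B : Base23 E E₂ F) (hidx : (MulAut.conj (G := Q₂)).range.index = 2) (M : ModelFacts X')

include X X' B hidx M in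
/-- every component of a trace has 1080 members -/
theorem comp_ncard {a₀ : G'} (ha₀ : a₀ ∈ D') {a x c : G} (ha : a ∈ D) (hx : x ∈ D) (hax : ¬ Commute a x)
    (hc : c ∈ perp₂ D a x) : (comp (perp₂ D a x) c).ncard = 1080 := by
  have hc' := iota_mem X X' ha ha₀ hc.1
  obtain ⟨Gl⟩ := exists_glue X X' B hidx ha ha₀ hc.1 hc' (iota_co X X' ha ha₀ hc.1)
  obtain ⟨hac, hxc⟩ := X.mem_perp_of_common ha hx hc
  have hn' : ¬ Commute a₀ (Gl.ψ x) := fun h => hax ((Gl.comm a hac x hxc).1 (by rw [Gl.left]; exact h))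
  have hm : Match X X' ha ha₀ c x (Gl.ψ x) := ⟨hxc, Gl.maps x hxc, fun y hy => by
    rw [← Gl.agree y hy, Gl.comm x hxc y hy.2]⟩
  have himg := comp_image X X' ha ha₀ B hidx hc hax hn' hm
  have hsub : comp (perp₂ D a x) c ⊆ perp D a := fun y hy => (comp_subset hc hy).1
  rw [← ((iota_injOn X X' ha ha₀).mono hsub).ncard_image, himg]
  refine M.comp_card a₀ ha₀ _ _ (Gl.maps x hxc).1 hn' ⟨hc', ?_⟩
  exact ⟨hc'.1, fun he => hn' (he ▸ hc'.2.2), ((Gl.maps x hxc).2.2).symm⟩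

include X X' B hidx M in
/-- a trace is one fibre or three -/
theorem trace_cases {a₀ : G'} (ha₀ : a₀ ∈ D') {a x c : G} (ha : a ∈ D) (hx : x ∈ D) (hax : ¬ Commute a x)
    (hc : c ∈ perp₂ D a x) : comp (perp₂ D a x) c = perp₂ D a x ∨ (perp₂ D a x).ncard = 3240 := by
  classical
  set T := perp₂ D a x with hT
  by_cases h : ∀ p ∈ T, p ∈ comp T c
  · exact Or.inl (Set.Subset.antisymm (fun y hy => comp_subset hc hy) h)
  push Not at h
  obtain ⟨p, hp, hpc⟩ := h
  have hcc : c * c = 1 := X.inv c hc.1.1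
  have hpp : p * p = 1 := X.inv p hp.1.1
  have hq : c * p * c ∈ T := X.trace_conj hc hp
  have hccc : c * c * c = c := by rw [hcc, one_mul]
  have hqc : c * p * c ∉ comp T c := fun h => hpc (by
    have := X.comp_conj hc h
    rw [hccc, show c * (c * p * c) * c = c * c * p * (c * c) by group, hcc, one_mul, mul_one] at this
    exact this)
  have hcp : ¬ Commute c p := fun h => hpc (comp_step (mem_comp_self _ _) hc hp h)
  have hbraid : c * p * c = p * c * p := by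
    obtain ⟨hac, hxc⟩ := X.mem_perp_of_common ha hx hc
    obtain ⟨hap, hxp⟩ := X.mem_perp_of_common ha hx hp
    have h1 := X.co_commute ha hc.1 hp.1
    obtain ⟨m₁, e₁⟩ := X.co_braid ha B.hD hc.1 hp.1
    obtain ⟨m₂, e₂⟩ := X.co_braid ha B.hD hp.1 hc.1
    refine X.co_inj ha m₁ m₂ (e₁.trans ((Basic.braid B.hD.1 (X.co_mem ha hc.1) (X.co_mem ha hp.1)
      (fun hh => hcp (h1.1 hh))).trans e₂.symm))
  have hqp : c * p * c ∉ comp T p := fun h => hpc (by
    have h2 := X.comp_conj hp h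
    rw [show p * p * p = p by rw [hpp, one_mul], hbraid,
      show p * (p * c * p) * p = p * p * c * (p * p) by group, hpp, one_mul, mul_one] at h2
    exact comp_symm h2)
  have hdisj : ∀ {u v : G}, v ∉ comp T u → Disjoint (comp T u) (comp T v) := fun {u v} huv =>
    Set.disjoint_left.2 fun y hy hy' => huv (by
      rw [← comp_eq_of_mem hy, comp_eq_of_mem hy']; exact mem_comp_self _ _)
  have hn : ∀ u ∈ T, (comp T u).ncard = 1080 := fun u hu => comp_ncard X X' B hidx M ha₀ ha hx hax hu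
  have hsub : comp T c ∪ comp T p ∪ comp T (c * p * c) ⊆ T := by
    rintro y ((hy | hy) | hy)
    exacts [comp_subset hc hy, comp_subset hp hy, comp_subset hq hy]
  have hle := Set.ncard_le_ncard hsub (Set.toFinite _)
  rw [Set.ncard_union_eq (Disjoint.union_left (hdisj hqc) (hdisj hqp)) (Set.toFinite _) (Set.toFinite _),
    Set.ncard_union_eq (hdisj hpc) (Set.toFinite _) (Set.toFinite _), hn c hc, hn p hp, hn _ hq] at hle
  exact Or.inr (le_antisymm (X.trace_le B ha hx hax).1 (by omega))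

include X B in
/-- conjugation on the perp set of `c` by an element centralising `a` and `c` is the same in both spaces -/
theorem glue_conj {a : G} (ha : a ∈ D) {a' : G'} (ha' : a' ∈ D') {c : G} {c' : G'} (hc : c ∈ perp D a)
    (Gl : Glue X X' ha ha' c c') {q : Q} (hq : Commute (X.co ha c) q) {y : G} (hy : y ∈ perp D c) :
    X.e a ha q * y * (X.e a ha q)⁻¹ ∈ perp D c ∧
      Gl.ψ (X.e a ha q * y * (X.e a ha q)⁻¹) = X'.e a' ha' q * Gl.ψ y * (X'.e a' ha' q)⁻¹ := by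
  have hqm : q ∈ Subgroup.closure (perp E (X.co ha c)) := by
    rw [B.rank.centralizer _ (X.co_mem ha hc), Subgroup.mem_centralizer_singleton_iff]
    exact hq.eq.symm
  have hac : a ∈ perp D c := ⟨ha, Ne.symm hc.2.1, hc.2.2.symm⟩
  have hcl : ∀ {u v : G}, u ∈ perp D c → v ∈ perp D c → u * v * u ∈ perp D c := fun {u v} hu hv =>
    (X.co_braid hc.1 B.hD hu hv).1
  have one : ∀ r ∈ perp E (X.co ha c), ∀ v ∈ perp D c,
      X.e a ha r * v * (X.e a ha r)⁻¹ ∈ perp D c ∧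
        Gl.ψ (X.e a ha r * v * (X.e a ha r)⁻¹) = X'.e a' ha' r * Gl.ψ v * (X'.e a' ha' r)⁻¹ := by
    intro r hr v hv
    set w := a * X.e a ha r with hwdef
    have hw := X.mul_e_mem ha hr.1
    have hwc : w ∈ perp₂ D a c := ⟨hw, hw.1, fun he => hr.2.1 (by rw [← he, X.co_mul ha hr.1]),
      by rw [← X.co_commute ha hc hw, X.co_mul ha hr.1]; exact hr.2.2⟩
    have e1 : X.e a ha r = a * w := by rw [hwdef, ← mul_assoc, X.inv a ha, one_mul]
    have e2 : X'.e a' ha' r = a' * Gl.ψ w := by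
      rw [Gl.agree w hwc, X.co_mul ha hr.1, ← mul_assoc, X'.inv a' ha', one_mul]
    have e3 : X.e a ha r * v * (X.e a ha r)⁻¹ = a * (w * v * w) * a := by
      rw [e1, mul_inv_rev, X.inv_eq (show w ∈ D from hw.1), X.inv_eq ha]; group
    rw [e3]
    refine ⟨hcl hac (hcl hwc.2 hv), ?_⟩
    rw [Gl.braid a hac _ (hcl hwc.2 hv), Gl.braid w hwc.2 v hv, Gl.left, e2, mul_inv_rev,
      X'.inv_eq ha', X'.inv_eq (Gl.maps w hwc.2).1]
    group
  induction hqm using Subgroup.closure_induction'' generalizing y with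
  | one => simpa using hy
  | mem r hr => exact one r hr y hy
  | inv_mem r hr =>
    rw [inv_eq_of_mul_eq_one_right (mul_self B.hD.1 hr.1)]; exact one r hr y hy
  | mul r r' h1 h2 ih1 ih2 =>
    have hcm : ∀ t ∈ Subgroup.closure (perp E (X.co ha c)), Commute (X.co ha c) t := fun t ht =>
      Levels.commute_closure (fun s hs => hs.2.2) t ht
    obtain ⟨m1, e1⟩ := ih2 (hcm r' h2) hy
    obtain ⟨m2, e2⟩ := ih1 (hcm r h1) m1
    have e3 : X.e a ha (r * r') * y * (X.e a ha (r * r'))⁻¹ =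
        X.e a ha r * (X.e a ha r' * y * (X.e a ha r')⁻¹) * (X.e a ha r)⁻¹ := by rw [map_mul]; group
    rw [e3]
    refine ⟨m2, ?_⟩
    rw [e2, e1, map_mul]
    group

include X X' B hidx M in
/-- every trace has 3240 members -/
theorem trace_3240 {a : G} (ha : a ∈ D)
    (hbound : ∀ (a' : G') (ha' : a' ∈ D') (q : Q), IsProd E 3 q →
      {y | y ∈ D ∧ Commute (X.e a ha q) y}.ncard ≤ {y | y ∈ D' ∧ Commute (X'.e a' ha' q) y}.ncard)
    {x : G} (hx : x ∈ D) (hax : ¬ Commute a x) (hne : (perp₂ D a x).Nonempty) :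
    (perp₂ D a x).ncard = 3240 := by
  classical
  letI := Fintype.ofFinite G
  letI := Fintype.ofFinite G'
  obtain ⟨a', ha', q, x₀, c₁, c₂, hq, hx₀, hn₀, hc₁, hc₂, hsep, hzx, hz1, hz2⟩ := M.special
  by_contra hbad
  -- every trace at `a` is one component
  have hone : ∀ k c, k ∈ D → ¬ Commute a k → c ∈ perp₂ D a k → comp (perp₂ D a k) c = perp₂ D a k := by
    intro k c hk hn hc
    refine (trace_cases X X' B hidx M ha' ha hk hn hc).resolve_right fun h => hbad ?_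
    obtain ⟨g, hg, hga, hgx⟩ := X.trans_near B ha hx hax hne hk hn ⟨c, hc⟩
    have := X.ncard_trace_conj hg a x
    rw [hga, hgx, h] at this
    exact this.symm
  set z := X.e a ha q with hz
  set z' := X'.e a' ha' q with hz'
  have hza : Commute z a := (X.comm a ha q).symm
  have hza' : Commute z' a' := (X'.comm a' ha' q).symm
  have hzperp : ∀ y ∈ perp D a, (Commute z y ↔ Commute q (X.co ha y)) := fun y hy => by
    obtain ⟨hm, hco⟩ := X.co_conj ha (g := z) (Or.inl rfl) (fun s hs => B.hD.2.1 q s hs) hy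
    constructor
    · intro h
      rw [h.eq, mul_inv_cancel_right] at hco
      exact eq_mul_inv_iff_mul_eq.1 hco |>.symm
    · intro h
      rw [h.eq, mul_inv_cancel_right] at hco
      exact mul_inv_eq_iff_eq_mul.1 (X.co_inj ha hm hy hco)
  have hzperp' : ∀ y ∈ perp D' a', (Commute z' y ↔ Commute q (X'.co ha' y)) := fun y hy => by
    obtain ⟨hm, hco⟩ := X'.co_conj ha' (g := z') (Or.inl rfl) (fun s hs => B.hD.2.1 q s hs) hy
    constructor
    · intro h
      rw [h.eq, mul_inv_cancel_right] at hco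
      exact eq_mul_inv_iff_mul_eq.1 hco |>.symm
    · intro h
      rw [h.eq, mul_inv_cancel_right] at hco
      exact mul_inv_eq_iff_eq_mul.1 (X'.co_inj ha' hm hy hco)
  set N := {y | y ∈ perp D a ∧ Commute z y} with hNdef
  set N' := {y | y ∈ perp D' a' ∧ Commute z' y} with hN'def
  set R := {k | k ∈ D ∧ ¬ Commute a k ∧ Commute z k ∧ ∃ c ∈ perp₂ D a k, Commute z c} with hRdef
  set R' := {k | k ∈ D' ∧ ¬ Commute a' k ∧ Commute z' k} with hR'def
  let ι : G → G' := fun y => a' * X'.e a' ha' (X.co ha y)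
  let ι' : G' → G := fun y => a * X.e a ha (X'.co ha' y)
  have hιz : ∀ y ∈ perp D a, (Commute z' (ι y) ↔ Commute z y) := fun y hy => by
    rw [hzperp' _ (iota_mem X X' ha ha' hy), iota_co X X' ha ha' hy, hzperp y hy]
  -- lifting a model member
  have lift : ∀ c' k', c' ∈ perp₂ D' a' k' → k' ∈ R' → Commute z' c' →
      ∃ k ∈ R, ι' c' ∈ perp₂ D a k ∧ Commute z (ι' c') ∧ Match X X' ha ha' (ι' c') k k' := by
    intro c' k' hc' hk' hzc'
    have hback : ι (ι' c') = c' := iota_inv X' X ha' ha hc'.1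
    have hc : ι' c' ∈ perp D a := iota_mem X' X ha' ha hc'.1
    have hzc : Commute z (ι' c') := by rw [← hιz _ hc, hback]; exact hzc'
    obtain ⟨Gl⟩ := exists_glue X X' B hidx ha ha' hc hc'.1 ((X.co_mul ha (X'.co_mem ha' hc'.1)).symm)
    have hk'c : k' ∈ perp D' c' := ⟨hk'.1, fun he => hk'.2.1 (he ▸ hc'.1.2.2), hc'.2.2.2.symm⟩
    obtain ⟨k, hk, hψ⟩ := Gl.onto k' hk'c
    have hac : a ∈ perp D (ι' c') := ⟨ha, Ne.symm hc.2.1, hc.2.2.symm⟩
    have hnk : ¬ Commute a k := fun h => hk'.2.1 (by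
      have := (Gl.comm a hac k hk).2 h; rwa [Gl.left, hψ] at this)
    obtain ⟨hm, he⟩ := glue_conj X X' B ha ha' hc Gl ((hzperp _ hc).1 hzc).symm hk
    rw [hψ, hk'.2.2.eq, mul_inv_cancel_right, ← hψ] at he
    have hzk : Commute z k := mul_inv_eq_iff_eq_mul.1 (Gl.injOn hm hk he)
    have hck : ι' c' ∈ perp₂ D a k := ⟨hc, hc.1, fun h => hnk (h ▸ hc.2.2), hk.2.2.symm⟩
    refine ⟨k, ⟨hk.1, hnk, hzk, _, hck, hzc⟩, hck, hzc, hk, ?_, fun y hy => ?_⟩
    · show k' ∈ perp D' (ι (ι' c'))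
      rw [hback]; exact hk'c
    · rw [← Gl.agree y hy, ← hψ, Gl.comm k hk y hy.2]
  -- the related model member
  have down : ∀ k ∈ R, ∃ k' ∈ R', ∃ c ∈ perp₂ D a k, Match X X' ha ha' c k k' := by
    rintro k ⟨hkD, hnk, hzk, c, hc, hzc⟩
    obtain ⟨Gl⟩ := exists_glue X X' B hidx ha ha' hc.1 (iota_mem X X' ha ha' hc.1) (iota_co X X' ha ha' hc.1)
    obtain ⟨hac, hkc⟩ := X.mem_perp_of_common ha hkD hc
    obtain ⟨hm, he⟩ := glue_conj X X' B ha ha' hc.1 Gl ((hzperp _ hc.1).1 hzc).symm hkc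
    rw [hzk.eq, mul_inv_cancel_right] at he
    refine ⟨Gl.ψ k, ⟨(Gl.maps k hkc).1, fun h => hnk ((Gl.comm a hac k hkc).1 (by rw [Gl.left]; exact h)),
      eq_mul_inv_iff_mul_eq.1 he |>.symm⟩, c, hc, hkc, Gl.maps k hkc, fun y hy => ?_⟩
    rw [← Gl.agree y hy, Gl.comm k hkc y hy.2]
  choose! f hfR cc hcc hfm using down
  -- two related model members share a line
  have huniq : ∀ k c k', k ∈ R → c ∈ perp₂ D a k → k' ∈ R' → Match X X' ha ha' c k k' →
      k' = f k ∨ k' = a' * f k * a' := by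
    intro k c k' hk hc hk' hm
    have hmem : c ∈ comp (perp₂ D a k) (cc k) := by rw [hone k (cc k) hk.1 hk.2.1 (hcc k hk)]; exact hc
    obtain ⟨⟨hca, hm2⟩, -⟩ := transfer X X' ha ha' B hidx (hcc k hk).1 hk.2.1 (hfR k hk).2.1 (hfm k hk) hmem
    set c' := ι c with hc'def
    have hc' : c' ∈ perp D' a' := iota_mem X X' ha ha' hca
    have hac' : a' ∈ perp D' c' := ⟨ha', Ne.symm hc'.2.1, hc'.2.2.symm⟩
    have hj : Commute (X'.co hc'.1 a') (X'.co hc'.1 k') → False := fun h =>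
      hk'.2.1 ((X'.co_commute _ hac' hm.2.1).1 h)
    have hj2 : Commute (X'.co hc'.1 a') (X'.co hc'.1 (f k)) → False := fun h =>
      (hfR k hk).2.1 ((X'.co_commute _ hac' hm2.2.1).1 h)
    rcases B.rank.line _ (X'.co_mem hc'.1 hac') _ (X'.co_mem hc'.1 hm2.2.1) hj2 _ (X'.co_mem hc'.1 hm.2.1)
        (fun w hw => by
          have hy' := X'.mul_e_mem hc'.1 hw.1.1
          have cw := X'.co_mul hc'.1 hw.1.1
          set y' := c' * X'.e c' hc'.1 w
          have h1 : Commute a' y' := by rw [← X'.co_commute _ hac' hy', cw]; exact hw.1.2.2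
          have h2 : Commute (f k) y' := by rw [← X'.co_commute _ hm2.2.1 hy', cw]; exact hw.2.2.2
          have hne : y' ≠ a' := fun he => hw.1.2.1 (by rw [← cw, he])
          have hy'2 : y' ∈ perp₂ D' a' c' := ⟨⟨hy'.1, hne, h1⟩, hy'⟩
          have hy : ι' y' ∈ perp₂ D a c := by
            have := iota_mem_perp₂ X' X ha' ha hc' hy'2
            rwa [hc'def, iota_inv X X' ha ha' hca] at this
          have hback : a' * X'.e a' ha' (X.co ha (ι' y')) = y' := iota_inv X' X ha' ha hy'2.1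
          rw [← cw, X'.co_commute _ hm.2.1 hy', ← hback, ← hm.2.2 _ hy, hm2.2.2 _ hy, hback]
          exact h2) with e | e | e
    · exact absurd (e ▸ Commute.refl _) hj
    · exact Or.inl (X'.co_inj _ hm.2.1 hm2.2.1 e)
    · obtain ⟨hm3, hco⟩ := X'.co_braid hc'.1 B.hD hac' hm2.2.1
      exact Or.inr (X'.co_inj _ hm.2.1 hm3 (e.trans hco.symm))
  -- lines
  let ln : G' → Sym2 G' := fun k' => s(k', a' * k' * a')
  have haa' := X'.inv a' ha'
  have haa := X.inv a ha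
  have hinv' : ∀ k' : G', a' * (a' * k' * a') * a' = k' := fun k' => by
    calc a' * (a' * k' * a') * a' = a' * a' * k' * (a' * a') := by group
      _ = k' := by rw [haa', one_mul, mul_one]
  have hln : ∀ k' j, (j = k' ∨ j = a' * k' * a') → ln j = ln k' := by
    rintro k' j (rfl | rfl)
    · rfl
    · simp only [ln]; rw [hinv', Sym2.eq_swap]
  let g : G → Sym2 G' := fun k => ln (f k)
  -- conjugating by `a`
  have conjR : ∀ k ∈ R, a * k * a ∈ R ∧ a * k * a ≠ k ∧ g (a * k * a) = g k ∧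
      perp₂ D a (a * k * a) = perp₂ D a k := by
    rintro k ⟨hkD, hnk, hzk, c, hc, hzc⟩
    have e : ∀ v, a * v * a = MulAut.conj a v := fun v => by rw [MulAut.conj_apply, X.inv_eq ha]
    have hfix : ∀ v, Commute a v → a * v * a = v := fun v hv => by rw [hv.eq, mul_assoc, haa, mul_one]
    have hnk' : ¬ Commute a (a * k * a) := fun h => hnk (by
      rw [← commute_conj_iff a a k, ← e, ← e, hfix a (Commute.refl a)]; exact h)
    have hperp : perp₂ D a (a * k * a) = perp₂ D a k := by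
      ext y
      constructor
      · rintro ⟨h1, h2⟩
        refine ⟨h1, h1.1, fun he => hnk (he ▸ h1.2.2), ?_⟩
        have := h2.2.2
        rwa [← hfix y h1.2.2, e, e, commute_conj_iff] at this
      · rintro ⟨h1, h2⟩
        refine ⟨h1, h1.1, fun he => hnk' (he ▸ h1.2.2), ?_⟩
        rw [← hfix y h1.2.2, e, e, commute_conj_iff]
        exact h2.2.2
    have hk2 : a * k * a ∈ R := ⟨X.conj a ha k hkD, hnk', (hza.mul_right hzk).mul_right hza, c,
      hperp ▸ hc, hzc⟩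
    refine ⟨hk2, fun he => hnk ?_, ?_, hperp⟩
    · show a * k = k * a
      calc a * k = a * k * (a * a) := by rw [haa, mul_one]
        _ = a * k * a * a := by group
        _ = k * a := by rw [he]
    · have hk1 : k ∈ R := ⟨hkD, hnk, hzk, c, hc, hzc⟩
      have hc2 := hcc _ hk2
      have hm := hfm _ hk2
      have hm' : Match X X' ha ha' (cc (a * k * a)) k (f (a * k * a)) := by
        refine ⟨⟨hkD, fun he => hnk (he ▸ hc2.1.2.2), (hperp ▸ hc2 : _ ∈ perp₂ D a k).2.2.2.symm⟩, hm.2.1,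
          fun y hy => ?_⟩
        have hy' : y ∈ perp₂ D a (cc (a * k * a)) := hy
        have h2 := commute_conj_iff a k y
        rw [← e, ← e, hfix y hy.1.2.2] at h2
        rw [← hm.2.2 y hy', h2]
      exact hln _ _ (huniq k _ _ hk1 (hperp ▸ hc2) (hfR _ hk2) hm')
  -- fibres
  set L' := (ln '' R') with hL'
  have hR'le : R'.ncard ≤ 2 * L'.ncard := by
    have hmap : ∀ k ∈ R'.toFinset, ln k ∈ L'.toFinset := fun k hk =>
      Set.mem_toFinset.2 ⟨k, Set.mem_toFinset.1 hk, rfl⟩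
    rw [Set.ncard_eq_toFinset_card', Set.ncard_eq_toFinset_card', Finset.card_eq_sum_card_fiberwise hmap]
    refine (Finset.sum_le_card_nsmul _ _ 2 fun l hl => ?_).trans (by rw [smul_eq_mul, mul_comm])
    obtain ⟨k₀, -, rfl⟩ := Set.mem_toFinset.1 hl
    refine (Finset.card_le_card (t := {k₀, a' * k₀ * a'}) fun k hk => ?_).trans Finset.card_le_two
    rw [Finset.mem_filter] at hk
    have := (Sym2.eq_iff.1 hk.2)
    rcases this with ⟨h, -⟩ | ⟨h, -⟩ <;> simp [h]
  -- the special line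
  have hx₀R : x₀ ∈ R' := ⟨hx₀, hn₀, hzx⟩
  obtain ⟨k₁, hk₁, hd₁, -, hm₁⟩ := lift c₁ x₀ hc₁ hx₀R hz1
  obtain ⟨k₂, hk₂, hd₂, -, hm₂⟩ := lift c₂ x₀ hc₂ hx₀R hz2
  have hT₁ : ι' c₂ ∉ perp₂ D a k₁ := fun h => hsep (by
    have hmem : ι' c₂ ∈ comp (perp₂ D a k₁) (ι' c₁) := by rw [hone k₁ _ hk₁.1 hk₁.2.1 hd₁]; exact h
    have h2 := (transfer X X' ha ha' B hidx hd₁.1 hk₁.2.1 hn₀ hm₁ hmem).2
    rwa [iota_inv X' X ha' ha hc₂.1, iota_inv X' X ha' ha hc₁.1] at h2)
  have hsame : ∀ k ∈ R, ∀ c, c ∈ perp₂ D a k → Match X X' ha ha' c k x₀ → g k = ln x₀ := fun k hk c hc hm =>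
    (hln _ _ (huniq k c x₀ hk hc hx₀R hm)).symm
  have hne12 : k₁ ≠ k₂ ∧ a * k₁ * a ≠ k₂ ∧ k₁ ≠ a * k₂ * a ∧ a * k₁ * a ≠ a * k₂ * a := by
    have t1 := (conjR k₁ hk₁).2.2.2
    have t2 := (conjR k₂ hk₂).2.2.2
    refine ⟨fun h => hT₁ (h ▸ hd₂), fun h => hT₁ ?_, fun h => hT₁ ?_, fun h => hT₁ ?_⟩
    · rw [← t1, h]; exact hd₂
    · rw [h, t2]; exact hd₂
    · rw [← t1, h, t2]; exact hd₂
  have hRge : 2 * L'.ncard + 2 ≤ R.ncard := by
    have hmap : ∀ k ∈ R.toFinset, g k ∈ L'.toFinset := fun k hk =>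
      Set.mem_toFinset.2 ⟨f k, hfR k (Set.mem_toFinset.1 hk), rfl⟩
    rw [Set.ncard_eq_toFinset_card' R, Finset.card_eq_sum_card_fiberwise hmap]
    have hx₀L : ln x₀ ∈ L'.toFinset := Set.mem_toFinset.2 ⟨x₀, hx₀R, rfl⟩
    rw [← Finset.add_sum_erase _ _ hx₀L]
    have h2 : ∀ l ∈ L'.toFinset.erase (ln x₀), 2 ≤ (R.toFinset.filter fun k => g k = l).card := by
      intro l hl
      obtain ⟨k', hk', rfl⟩ := Set.mem_toFinset.1 (Finset.mem_erase.1 hl).2
      obtain ⟨c', hc', hzc'⟩ := M.near_in a' ha' q hq k' hk'.1 hk'.2.2 hk'.2.1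
      obtain ⟨k, hk, hd, -, hm⟩ := lift c' k' hc' hk' hzc'
      have hgk : g k = ln k' := (hln _ _ (huniq k _ k' hk hd hk' hm)).symm
      obtain ⟨hk2, hne2, hg2, -⟩ := conjR k hk
      calc 2 = ({k, a * k * a} : Finset G).card := (Finset.card_pair hne2.symm).symm
        _ ≤ _ := Finset.card_le_card fun v hv => by
          rw [Finset.mem_filter, Set.mem_toFinset]
          simp only [Finset.mem_insert, Finset.mem_singleton] at hv
          rcases hv with rfl | rfl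
          exacts [⟨hk, hgk⟩, ⟨hk2, hg2.trans hgk⟩]
    have h4 : 4 ≤ (R.toFinset.filter fun k => g k = ln x₀).card := by
      obtain ⟨a1, b1, g1, -⟩ := conjR k₁ hk₁
      obtain ⟨a2, b2, g2, -⟩ := conjR k₂ hk₂
      have e1 := hsame k₁ hk₁ _ hd₁ hm₁
      have e2 := hsame k₂ hk₂ _ hd₂ hm₂
      calc 4 = ({k₁, a * k₁ * a, k₂, a * k₂ * a} : Finset G).card := by
            rw [Finset.card_insert_of_notMem, Finset.card_insert_of_notMem, Finset.card_pair b2.symm]
            · simp [hne12.2.1, hne12.2.2.2]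
            · simp [b1.symm, hne12.1, hne12.2.2.1]
        _ ≤ _ := Finset.card_le_card fun v hv => by
          rw [Finset.mem_filter, Set.mem_toFinset]
          simp only [Finset.mem_insert, Finset.mem_singleton] at hv
          rcases hv with rfl | rfl | rfl | rfl
          exacts [⟨hk₁, e1⟩, ⟨a1, g1.trans e1⟩, ⟨hk₂, e2⟩, ⟨a2, g2.trans e2⟩]
    have h5 := Finset.card_nsmul_le_sum _ _ _ h2
    rw [smul_eq_mul, Finset.card_erase_of_mem hx₀L, ← Set.ncard_eq_toFinset_card'] at h5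
    have hpos : 0 < L'.ncard := by
      rw [Set.ncard_eq_toFinset_card']; exact Finset.card_pos.2 ⟨_, hx₀L⟩
    omega
  -- totals
  have hG : 1 + N.ncard + R.ncard ≤ {y | y ∈ D ∧ Commute z y}.ncard := by
    have hd : Disjoint N R := Set.disjoint_left.2 fun y hy hy' => hy'.2.1 hy.1.2.2
    have haN : a ∉ N ∪ R := by
      rintro (h | h)
      · exact h.1.2.1 rfl
      · exact h.2.1 (Commute.refl a)
    rw [show 1 + N.ncard + R.ncard = (insert a (N ∪ R)).ncard from by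
      rw [Set.ncard_insert_of_notMem haN, Set.ncard_union_eq hd]; omega]
    refine Set.ncard_le_ncard ?_ (Set.toFinite _)
    rintro y (rfl | hy | hy)
    exacts [⟨ha, hza⟩, ⟨hy.1.1, hy.2⟩, ⟨hy.1, hy.2.2.1⟩]
  have hG' : {y | y ∈ D' ∧ Commute z' y}.ncard ≤ 1 + N'.ncard + R'.ncard := by
    refine (Set.ncard_le_ncard (t := insert a' (N' ∪ R')) ?_ (Set.toFinite _)).trans
      ((Set.ncard_insert_le _ _).trans ?_)
    · rintro y ⟨hy, hzy⟩
      by_cases h1 : y = a'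
      · exact Or.inl h1
      by_cases h2 : Commute a' y
      · exact Or.inr (Or.inl ⟨⟨hy, h1, h2⟩, hzy⟩)
      · exact Or.inr (Or.inr ⟨hy, h2, hzy⟩)
    · have := Set.ncard_union_le N' R'; omega
  have hNN : N.ncard = N'.ncard := by
    refine Set.ncard_congr (fun y _ => ι y) (fun y hy => ⟨iota_mem X X' ha ha' hy.1, (hιz y hy.1).2 hy.2⟩)
      (fun y z hy hz h => iota_injOn X X' ha ha' hy.1 hz.1 h) fun y' hy' => ?_
    have hback : ι (ι' y') = y' := iota_inv X' X ha' ha hy'.1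
    exact ⟨ι' y', ⟨iota_mem X' X ha' ha hy'.1, by rw [← hιz _ (iota_mem X' X ha' ha hy'.1), hback]; exact hy'.2⟩,
      hback⟩
  have h' : {y | y ∈ D ∧ Commute z y}.ncard ≤ {y | y ∈ D' ∧ Commute z' y}.ncard := hbound a' ha' q hq
  omega

end Cfsg.Agent.Lib.FischerTop83
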