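import Mathlib
import Cfsg.Agent.Lib.FischerTop83.Trace
import Cfsg.Agent.Lib.FischerMTypes.ParityM24
import Cfsg.Agent.Lib.FischerMTypes.IndexTwoLayer
import Cfsg.Agent.Lib.FischerMTypes.QuasiM22
import Cfsg.Agent.Lib.FischerMTypes.StepGroup
import Cfsg.Agent.Lib.FischerMTypes83.Triality.Cross
import Cfsg.Agent.Lib.FischerQuad75.Main
import Cfsg.Agent.Lib.Cores.Basic

/-!
A group of type M(24) as a space, and the facts about its traces used in recognition.
-/

set_option autoImplicit false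
set_option linter.style.haveILetI false
set_option linter.unusedSectionVars false

namespace Cfsg.Agent.Lib.FischerTop83

open Cfsg.Agent.Lib.FischerMTypes.Basic Cfsg.Agent.Lib.FischerMTypes.Primitive
  Cfsg.Agent.Lib.FischerMTypes.Step Cfsg.Agent.Lib.FischerMTypes
open Cfsg.Agent.Lib.FischerMTypes.TraceCounts (Sys)
open Cfsg.Agent.Lib.FischerMTypes32 (Data24)

universe u

theorem common_row : ∀ i j : Fin 126, i ≠ j → FischerQuad75.adjB i j = false →
    (FischerQuad75.row i &&& FischerQuad75.row j) % 2 ^ 126 ≠ 0 := by decide +kernel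

theorem common_adj {i j : Fin 126} (h : i ≠ j) (h' : FischerQuad75.adjB i j = false) :
    ∃ k, FischerQuad75.adjB i k = true ∧ FischerQuad75.adjB j k = true := by
  obtain ⟨b, hb⟩ := Nat.exists_testBit_of_ne_zero (common_row i j h h')
  rw [Nat.testBit_mod_two_pow, Nat.testBit_and, Bool.and_eq_true, Bool.and_eq_true, decide_eq_true_iff] at hb
  exact ⟨⟨b, hb.1⟩, hb.2.1, hb.2.2⟩

variable {G : Type u} [Group G] [Finite G] {D : Set G} {Q : Type u} [Group Q] [Finite Q] {E : Set Q}
  {Q₂ : Type u} [Group Q₂] [Finite Q₂] {E₂ : Set Q₂} {F : Type} [Field F] [Fintype F]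

def base_of_data (K : Data24 D E E₂ F) : Base23 E E₂ F :=
  ⟨K.hM, K.S.rank.hD, K.S.rank.hprim, K.S22, K.S23⟩

theorem parity_of_data (K : Data24 D E E₂ F) {a : G} (ha : a ∈ D) : a ∉ commutator G :=
  ParityM24.parity K.S22 K.S23 K.S K.hM (M24Data.pinned K.S22 K.S23 K.hM K.h24 K.S) ha

theorem mem_or_of_data (K : Data24 D E E₂ F) {a : G} (ha : a ∈ D) (g : G) :
    g ∈ commutator G ∨ g * a ∈ commutator G :=
  IndexTwoLayer.mem_or (M := commutator G) K.hprim K.hD
    (fun _ hx _ hy => IndexTwoLayer.mul_mem_commutator K.hD K.hprim hx hy) ha g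

theorem self_central (K : Data24 D E E₂ F) {a : G} (ha : a ∈ D) :
    a ∈ Subgroup.closure (perp D a) ∧ K.S.f ha a = 1 := by
  have hself := M24Data.self_mem K.S22 K.S23 K.S K.hM ha
  refine ⟨hself, ?_⟩
  rw [← K.S.f_one ha, K.S.f_eq_iff ha hself (one_mem _)]
  exact fun u hu => by rw [mul_one]; exact hu.2.2.symm.inv_right

theorem exists_space (K : Data24 D E E₂ F) :
    ∃ X : Space D E, ∀ a (ha : a ∈ D) (q : Q), X.e a ha q ∈ commutator G := by
  have P := M24Data.pinned K.S22 K.S23 K.hM K.h24 K.S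
  have hpar : ∀ a ∈ D, a ∉ commutator G := fun a ha => parity_of_data K ha
  have hx : ∀ a (ha : a ∈ D), ∀ q : Q, ∃ g : G, (g ∈ Subgroup.closure (perp D a) ∧ g ∈ commutator G ∧
      K.S.f ha g = q) ∧ ∀ g', g' ∈ Subgroup.closure (perp D a) → g' ∈ commutator G → K.S.f ha g' = q → g' = g := by
    intro a ha q
    obtain ⟨hself, hfa⟩ := self_central K ha
    obtain ⟨h, hh, rfl⟩ := K.S.exists_f_closure ha q
    obtain ⟨g, hg, hgc, hgf⟩ : ∃ g, g ∈ Subgroup.closure (perp D a) ∧ g ∈ commutator G ∧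
        K.S.f ha g = K.S.f ha h := by
      rcases mem_or_of_data K ha h with h' | h'
      · exact ⟨h, hh, h', rfl⟩
      · exact ⟨h * a, mul_mem hh hself, h', by rw [K.S.f_mul ha hh hself, hfa, mul_one]⟩
    refine ⟨g, ⟨hg, hgc, hgf⟩, fun g' hg' hgc' hgf' => ?_⟩
    rcases K.S.center_perp M24Data.small ha (mul_mem (inv_mem hg') hg)
        ((K.S.f_eq_iff ha hg' hg).1 (hgf'.trans hgf.symm)) with e | e
    · exact (inv_mul_eq_one.1 e)
    · exact absurd (e ▸ mul_mem (inv_mem hgc') hgc) (hpar a ha)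
  choose sec hsec huni using hx
  have hhom : ∀ a (ha : a ∈ D) (q r : Q), sec a ha (q * r) = sec a ha q * sec a ha r := fun a ha q r => by
    obtain ⟨h1, h2, h3⟩ := hsec a ha q
    obtain ⟨g1, g2, g3⟩ := hsec a ha r
    exact (huni a ha _ _ (mul_mem h1 g1) (mul_mem h2 g2) (by rw [K.S.f_mul ha h1 g1, h3, g3])).symm
  refine ⟨⟨fun a ha => mul_self K.hD.1 ha, fun a ha b hb => ?_, fun a ha => MonoidHom.mk' (sec a ha) (hhom a ha),
    ?_, ?_, ?_, ?_, ?_⟩, fun a ha q => (hsec a ha q).2.1⟩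
  · have := K.hD.2.1 a b hb
    rwa [inv_eq K.hD.1 ha] at this
  · intro a ha q r h
    change sec a ha q = sec a ha r at h
    rw [← (hsec a ha q).2.2, h, (hsec a ha r).2.2]
  · exact fun a ha q => Levels.commute_closure (fun y hy => hy.2.2) _ (hsec a ha q).1
  · exact fun a ha q h => hpar a ha (h ▸ (hsec a ha q).2.1)
  · intro a ha g hg
    obtain ⟨hself, hfa⟩ := self_central K ha
    have hgC : g ∈ Subgroup.closure (perp D a) := by
      rw [StepData.centralizer_eq K.S P ha, Subgroup.mem_centralizer_singleton_iff]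
      exact hg.eq.symm
    refine ⟨K.S.f ha g, ?_⟩
    rcases mem_or_of_data K ha g with h | h
    · exact Or.inl (huni a ha _ g hgC h rfl)
    · refine Or.inr ?_
      have h2 := huni a ha (K.S.f ha g) (g * a) (mul_mem hgC hself) h
        (by rw [K.S.f_mul ha hgC hself, hfa, mul_one])
      show g = a * sec a ha (K.S.f ha g)
      rw [← h2, ← mul_assoc, hg.eq, mul_assoc, mul_self K.hD.1 ha, mul_one]
  · intro a ha y
    obtain ⟨hself, hfa⟩ := self_central K ha
    have key : ∀ y ∈ perp D a, y = a * sec a ha (K.S.f ha y) := fun y hy => by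
      have hyC := Subgroup.subset_closure hy
      have h2 := huni a ha (K.S.f ha y) (a * y) (mul_mem hself hyC)
        (IndexTwoLayer.mul_mem_commutator K.hD K.hprim ha hy.1) (by rw [K.S.f_mul ha hself hyC, hfa, one_mul])
      rw [← h2, ← mul_assoc, mul_self K.hD.1 ha, one_mul]
    constructor
    · exact fun hy => ⟨_, K.S.f_mem ha hy, key y hy⟩
    · rintro ⟨s, hs, rfl⟩
      obtain ⟨v, hv, rfl⟩ := K.S.exists_f ha hs
      show a * sec a ha (K.S.f ha v) ∈ perp D a
      rw [← key v hv]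
      exact hv

/-- the common part of a fibre: a component, its group and its stabiliser in `Q` -/
def OmegaFacts {G' : Type u} [Group G'] {D' : Set G'} (X' : Space D' E) : Prop :=
  ∃ (a : G') (ha : a ∈ D') (x c : G'), x ∈ D' ∧ ¬ Commute a x ∧ c ∈ perp₂ D' a x ∧
    Nonempty (↥(Subgroup.closure {g : Q | ∃ u ∈ X'.co ha '' comp (perp₂ D' a x) c,
      ∃ v ∈ X'.co ha '' comp (perp₂ D' a x) c, g = u * v}) ≃* Cfsg.POmega (ZMod 3) (Cfsg.quadFormPlus 4 (ZMod 3))) ∧
    ∀ h : Q, (∀ u ∈ X'.co ha '' comp (perp₂ D' a x) c, h * u * h⁻¹ ∈ X'.co ha '' comp (perp₂ D' a x) c) →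
      ∀ p ∈ X'.co ha '' comp (perp₂ D' a x) c,
        h ∈ Subgroup.closure {g : Q | ∃ u ∈ X'.co ha '' comp (perp₂ D' a x) c,
          ∃ v ∈ X'.co ha '' comp (perp₂ D' a x) c, g = u * v} ∨
        h * p ∈ Subgroup.closure {g : Q | ∃ u ∈ X'.co ha '' comp (perp₂ D' a x) c,
          ∃ v ∈ X'.co ha '' comp (perp₂ D' a x) c, g = u * v}

theorem core_le_center_of_data (K : Data24 D E E₂ F) {p : ℕ} [Fact p.Prime] {d : G} (hd : d ∈ D) :
    Cfsg.pCore p ↥(Subgroup.closure (perp D d)) ≤ Subgroup.center ↥(Subgroup.closure (perp D d)) := by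
  have B := base_of_data K
  have hQs : IsSimpleGroup Q := by
    have P := B.pinned
    have hQ₂ := QuasiM22.simple B.S22
    have hder : ∀ a (ha : a ∈ E), (⟨a, P.self a ha⟩ : ↥(Subgroup.closure (perp E a))) ∈
        commutator ↥(Subgroup.closure (perp E a)) := fun a ha => by
      obtain ⟨x0, h0, x1, h1, x2, h2, x3, h3, x4, h4, x5, h5, he⟩ :=
        M23Data.exists_six B.hD B.hprim B.hM B.S22 B.S ha
      exact B.S.six_mem_commutator ha h0 h1 h2 h3 h4 h5 he _
    exact B.S.simple P hQ₂ fun a ha => B.S.perfect P.small hQ₂ ha _ (hder a ha)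
  haveI := hQs
  set π := (K.S.loc d hd).π
  set C := Cfsg.pCore p ↥(Subgroup.closure (perp D d))
  have hn : (C.map π).Normal :=
    Subgroup.Normal.map (Subgroup.sSup_normal _ fun _ h => h.1) π (K.S.loc d hd).surj
  intro x hx
  rcases hn.eq_bot_or_eq_top with h | h
  · have h1 : π x ∈ C.map π := ⟨x, hx, rfl⟩
    rw [h, Subgroup.mem_bot] at h1
    rw [← (K.S.loc d hd).ker]
    exact h1
  · exfalso
    have hp : IsPGroup p ↥(C.map π) := (Cfsg.Agent.Lib.Cores.pCore_isPGroup p).map π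
    rw [h] at hp
    have hpQ : IsPGroup p Q := hp.of_equiv Subgroup.topEquiv
    have hnt : Nontrivial Q := inferInstance
    have := hpQ.center_nontrivial
    exact (Subgroup.nontrivial_iff_ne_bot _).1 this B.S.hZ

open Cfsg.Agent.Lib.FischerMTypes83.Triality in
theorem exists_act_of_data (K : Data24 D E E₂ F) {a x : G} (ha : a ∈ D) (hx : x ∈ D) (hax : ¬ Commute a x) :
    Nonempty (Act D a x) := by
  haveI : Fact (Nat.Prime 2) := ⟨Nat.prime_two⟩
  haveI : Fact (Nat.Prime 3) := ⟨Nat.prime_three⟩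
  exact exists_act K.hD K.hprim a ha (core_le_center_of_data K ha) (core_le_center_of_data K ha) K.h24 ha hx hax

section facts

open Cfsg.Agent.Lib.FischerMTypes83.Triality Cfsg.Agent.Lib.O8Three.Rep

attribute [local instance] FischerMTypes83.Triality.finite_T'

variable (K : Data24 D E E₂ F) {a x : G} (A : Act D a x)

include K in
theorem lab_eq_of_commute {p q : G} (hp : p ∈ perp₂ D a x) (hq : q ∈ perp₂ D a x) (h : Commute p q) :
    A.lab (A.el hp) = A.lab (A.el hq) :=
  sym_three_inv_comm _ _ (A.lab_el_sq K.hD hp) (A.lab_el_sq K.hD hq) (A.lab_el_ne hp) (A.lab_el_ne hq)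
    (by rw [← map_mul, ← map_mul, show A.el hp * A.el hq = A.el hq * A.el hp from Subtype.ext h.eq])

include K in
theorem lab_of_comp {c y : G} (hc : c ∈ perp₂ D a x) (hy : y ∈ comp (perp₂ D a x) c) :
    A.lab (A.el (comp_subset hc hy)) = A.lab (A.el hc) := by
  induction hy with
  | refl => rfl
  | tail h hstep ih => exact (lab_eq_of_commute K A hstep.2.1 hstep.1 hstep.2.2.2.symm).trans ih

include K in
/-- a component is a fibre of the labels -/
theorem fibre_eq (ha : a ∈ D) (hx : x ∈ D) (hax : ¬ Commute a x) {c : G} (hc : c ∈ perp₂ D a x) :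
    (∀ y (hy : y ∈ perp₂ D a x), A.lab (A.el hy) = A.lab (A.el hc) → y ∈ comp (perp₂ D a x) c) ∧
      (comp (perp₂ D a x) c).ncard = 1080 := by
  classical
  set L := perp₂ D a x with hL
  set lb : G → Equiv.Perm (Fin 3) := fun y => if h : y ∈ L then A.lab (A.el h) else 1 with hlb
  have hlb' : ∀ {y} (h : y ∈ L), lb y = A.lab (A.el h) := fun h => dif_pos h
  set Fb : Equiv.Perm (Fin 3) → Set G := fun s => {y | y ∈ L ∧ lb y = s}
  have hbig : ∀ p ∈ L, 576 ≤ (comp L p).ncard := by
    intro p hp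
    have hnb := K.S.ncard_trace_nbr ha hx hax hp
    obtain ⟨q, hq, hqp, hpq⟩ := Set.nonempty_of_ncard_ne_zero
      (s := {y | y ∈ L ∧ (y ≠ p ∧ Commute p y)}) (by rw [hnb]; norm_num)
    set C₁ := {y | y ∈ L ∧ (y ≠ p ∧ Commute p y)}
    set C₂ := {y | y ∈ L ∧ (y ≠ q ∧ Commute q y)}
    have hqc : q ∈ comp L p := comp_step (mem_comp_self _ _) hp hq hpq
    have hsub : C₁ ∪ C₂ ⊆ comp L p := by
      rintro u (⟨hu, -, h⟩ | ⟨hu, -, h⟩)
      · exact comp_step (mem_comp_self _ _) hp hu h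
      · exact comp_step hqc hq hu h
    have hinter : C₁ ∩ C₂ = {y | y ∈ L ∧ (y ≠ p ∧ y ≠ q ∧ Commute p y ∧ Commute q y)} :=
      Set.ext fun u => ⟨fun h => ⟨h.1.1, h.1.2.1, h.2.2.1, h.1.2.2, h.2.2.2⟩,
        fun h => ⟨⟨h.1, h.2.1, h.2.2.2.1⟩, h.1, h.2.2.1, h.2.2.2.2⟩⟩
    have h1 := Set.ncard_union_add_ncard_inter C₁ C₂ (Set.toFinite _) (Set.toFinite _)
    rw [hinter, M24Data.trace_common K.S23 K.S ha hx hax p hp q hq (Ne.symm hqp) hpq, hnb,
      K.S.ncard_trace_nbr ha hx hax hq] at h1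
    have h2 := Set.ncard_le_ncard hsub (Set.toFinite _)
    omega
  -- the fibres have 1080 members each
  have hconj : ∀ s t : Equiv.Perm (Fin 3), s * s = 1 → s ≠ 1 → t * t = 1 → t ≠ 1 →
      (Fb s).ncard ≤ (Fb t).ncard := by
    intro s t hs hs1 ht ht1
    obtain ⟨π, hπ⟩ := perm_three_move s t hs hs1 ht ht1
    obtain ⟨g, rfl⟩ := A.lab_surjective π
    refine Set.ncard_le_ncard_of_injOn (fun y => (g : G) * y * (g : G)⁻¹) ?_
      (fun u _ v _ h => mul_left_cancel (mul_right_cancel h)) (Set.toFinite _)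
    rintro y ⟨hy, hys⟩
    have hy' := A.perp_stable K.hD g hy
    refine ⟨hy', ?_⟩
    rw [hlb' hy', ← A.el_conj hy hy' rfl, map_mul, map_mul, map_inv, ← hlb' hy, hys, hπ]
  have hthree : ∀ s : Equiv.Perm (Fin 3), s * s = 1 → s ≠ 1 → (Fb s).ncard = 1080 := by
    have hpart : L = Fb (Equiv.swap 0 1) ∪ Fb (Equiv.swap 0 2) ∪ Fb (Equiv.swap 1 2) := by
      refine Set.Subset.antisymm (fun y hy => ?_) ?_
      · have key : ∀ s : Equiv.Perm (Fin 3), s * s = 1 → s ≠ 1 →
            (s = Equiv.swap 0 1 ∨ s = Equiv.swap 0 2 ∨ s = Equiv.swap 1 2) := by decide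
        rcases key (lb y) (by rw [hlb' hy]; exact A.lab_el_sq K.hD hy) (by rw [hlb' hy]; exact A.lab_el_ne hy)
          with e | e | e
        exacts [Or.inl (Or.inl ⟨hy, e⟩), Or.inl (Or.inr ⟨hy, e⟩), Or.inr ⟨hy, e⟩]
      · rintro y ((h | h) | h) <;> exact h.1
    have hd : ∀ {s t : Equiv.Perm (Fin 3)}, s ≠ t → Disjoint (Fb s) (Fb t) := fun hne =>
      Set.disjoint_left.2 fun y h h' => hne (h.2.symm.trans h'.2)
    have hsum := A.count
    have sw : ∀ {i j : Fin 3}, i ≠ j → Equiv.swap i j * Equiv.swap i j = 1 ∧ Equiv.swap i j ≠ 1 := by decide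
    rw [show perp₂ D a x = L from rfl, hpart,
      Set.ncard_union_eq (Disjoint.union_left (hd (by decide)) (hd (by decide))) (Set.toFinite _) (Set.toFinite _),
      Set.ncard_union_eq (hd (by decide)) (Set.toFinite _) (Set.toFinite _)] at hsum
    intro s hs hs1
    obtain ⟨a1, a2⟩ := sw (i := 0) (j := 1) (by decide)
    obtain ⟨b1, b2⟩ := sw (i := 0) (j := 2) (by decide)
    obtain ⟨c1, c2⟩ := sw (i := 1) (j := 2) (by decide)
    have := hconj _ _ hs hs1 a1 a2
    have := hconj _ _ a1 a2 hs hs1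
    have := hconj _ _ hs hs1 b1 b2
    have := hconj _ _ b1 b2 hs hs1
    have := hconj _ _ hs hs1 c1 c2
    have := hconj _ _ c1 c2 hs hs1
    omega
  have hsub : comp L c ⊆ Fb (A.lab (A.el hc)) := fun y hy =>
    ⟨comp_subset hc hy, by rw [hlb' (comp_subset hc hy)]; exact lab_of_comp K A hc hy⟩
  have hall : ∀ y (hy : y ∈ L), A.lab (A.el hy) = A.lab (A.el hc) → y ∈ comp L c := by
    intro y hy he
    by_contra hn
    have hd : Disjoint (comp L c) (comp L y) := Set.disjoint_left.2 fun v hv hv' => hn (by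
      rw [← comp_eq_of_mem hv, comp_eq_of_mem hv']; exact mem_comp_self _ _)
    have hsub2 : comp L y ⊆ Fb (A.lab (A.el hc)) := fun v hv => ⟨comp_subset hy hv, by
      rw [hlb' (comp_subset hy hv)]; exact (lab_of_comp K A hy hv).trans he⟩
    have h1 := Set.ncard_le_ncard (Set.union_subset hsub hsub2) (Set.toFinite _)
    rw [Set.ncard_union_eq hd (Set.toFinite _) (Set.toFinite _),
      hthree _ (A.lab_el_sq K.hD hc) (A.lab_el_ne hc)] at h1
    have := hbig c hc
    have := hbig y hy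
    omega
  refine ⟨hall, ?_⟩
  rw [show comp L c = Fb (A.lab (A.el hc)) from Set.Subset.antisymm hsub fun y hy =>
    hall y hy.1 (by rw [← hlb' hy.1]; exact hy.2)]
  exact hthree _ (A.lab_el_sq K.hD hc) (A.lab_el_ne hc)

include K in
theorem pre_commutator (t : T) : (A.pre t : G) ∈ commutator G := by
  haveI := simple_T
  have hperf : commutator T = ⊤ := by
    rcases (inferInstance : (commutator T).Normal).eq_bot_or_eq_top with h | h
    · exfalso
      have hc : Subgroup.center T = ⊤ := eq_top_iff.2 fun u _ => Subgroup.mem_center_iff.2 fun v => by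
        have := Subgroup.commutator_mem_commutator (Subgroup.mem_top v) (Subgroup.mem_top u)
        rw [← commutator_def, h, Subgroup.mem_bot] at this
        exact commutatorElement_eq_one_iff_mul_comm.1 this
      rw [center_T] at hc
      exact bot_ne_top hc
    · exact h
  let f : T →* G := (Subgroup.subtype _).comp A.pre
  show f t ∈ commutator G
  have h1 : (commutator T).map f ≤ commutator G := by
    rw [commutator_def, Subgroup.map_commutator]
    exact Subgroup.commutator_mono le_top le_top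
  exact h1 ⟨t, hperf ▸ Subgroup.mem_top t, rfl⟩

variable (X : Space D E) (heven : ∀ a (ha : a ∈ D) (q : Q), X.e a ha q ∈ commutator G)

include K heven in
theorem eq_e_of_even (ha : a ∈ D) {g : G} (hg : Commute a g) (hgc : g ∈ commutator G) :
    ∃ q, g = X.e a ha q := by
  obtain ⟨q, h | h⟩ := X.cent a ha g hg
  · exact ⟨q, h⟩
  · exfalso
    refine parity_of_data K ha ?_
    have := Subgroup.mul_mem _ hgc (Subgroup.inv_mem _ (heven a ha q))
    rwa [h, mul_inv_cancel_right] at this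

include K A heven in
theorem omega_facts (ha : a ∈ D) (hx : x ∈ D) (hax : ¬ Commute a x) {c : G} (hc : c ∈ perp₂ D a x) :
    OmegaFacts X := by
  haveI := simple_T
  set Fc := comp (perp₂ D a x) c with hFc
  set FQ := X.co ha '' Fc with hFQ
  set H₀ := Subgroup.closure {g : Q | ∃ u ∈ FQ, ∃ v ∈ FQ, g = u * v} with hH₀
  obtain ⟨hall, h1080⟩ := fibre_eq K A ha hx hax hc
  have hFa : ∀ {y}, y ∈ Fc → y ∈ perp₂ D a x := fun hy => comp_subset hc hy
  -- the even products of the fibre
  set S : Set T := {t | ∃ u v, u ∈ Fc ∧ v ∈ Fc ∧ (A.pre t : G) = u * v}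
  have hS : ∀ {u v}, u ∈ Fc → v ∈ Fc → ∃ t ∈ S, (A.pre t : G) = u * v := fun {u v} hu hv => by
    obtain ⟨t, ht⟩ := A.eq_pre (g := A.el (hFa hu) * A.el (hFa hv)) (by
      rw [map_mul, lab_of_comp K A hc hu, lab_of_comp K A hc hv, A.lab_el_sq K.hD hc])
    have e : (A.pre t : G) = u * v := congrArg Subtype.val ht.symm
    exact ⟨t, ⟨u, v, hu, hv, e⟩, e⟩
  have hnorm : (Subgroup.closure S).Normal := Subgroup.Normal.mk fun n hn g => by
    induction hn using Subgroup.closure_induction with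
    | mem s hs =>
      obtain ⟨u, v, hu, hv, e⟩ := hs
      refine Subgroup.subset_closure ⟨(A.pre g : G) * u * (A.pre g : G)⁻¹, (A.pre g : G) * v * (A.pre g : G)⁻¹,
        ?_, ?_, ?_⟩
      · have hm := A.perp_stable K.hD (A.pre g) (hFa hu)
        exact hall _ hm (by rw [← A.el_conj (hFa hu) hm rfl, map_mul, map_mul, A.lab_pre, one_mul, map_inv,
          A.lab_pre, inv_one, mul_one, lab_of_comp K A hc hu])
      · have hm := A.perp_stable K.hD (A.pre g) (hFa hv)
        exact hall _ hm (by rw [← A.el_conj (hFa hv) hm rfl, map_mul, map_mul, A.lab_pre, one_mul, map_inv,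
          A.lab_pre, inv_one, mul_one, lab_of_comp K A hc hv])
      · simp only [map_mul, map_inv, Subgroup.coe_mul, Subgroup.coe_inv, e]
        group
    | one => simp
    | mul p q _ _ hp hq =>
      rw [show g * (p * q) * g⁻¹ = g * p * g⁻¹ * (g * q * g⁻¹) by group]
      exact mul_mem hp hq
    | inv p _ hp =>
      rw [show g * p⁻¹ * g⁻¹ = (g * p * g⁻¹)⁻¹ by group]
      exact inv_mem hp
  have htop : Subgroup.closure S = ⊤ := by
    refine (hnorm.eq_bot_or_eq_top).resolve_left fun hbot => ?_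
    obtain ⟨y, hy, hne⟩ := Set.exists_ne_of_one_lt_ncard (s := Fc) (by rw [h1080]; norm_num) c
    obtain ⟨t, ht, e⟩ := hS hy (mem_comp_self _ _)
    have : t = 1 := Subgroup.mem_bot.1 (hbot ▸ Subgroup.subset_closure ht)
    rw [this, map_one, Subgroup.coe_one] at e
    exact hne (by rw [eq_inv_of_mul_eq_one_left e.symm, inv_eq K.hD.1 hc.1.1])
  -- the map of the simple group into `Q`
  have hcomm : ∀ t, Commute a (A.pre t : G) := fun t =>
    Subgroup.mem_centralizer_iff.1 (A.pre t).2 a (by simp)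
  choose w hw using fun t => eq_e_of_even K X heven ha (hcomm t) (pre_commutator K A t)
  let f : T →* Q := MonoidHom.mk' w fun s t => X.inj a ha (by
    rw [map_mul, ← hw, ← hw, ← hw, map_mul, Subgroup.coe_mul])
  have hf : Function.Injective f := fun s t h => A.pre_injective (Subtype.ext (by
    rw [hw s, hw t]; exact congrArg (X.e a ha) h))
  have hprod : ∀ {u v}, u ∈ Fc → v ∈ Fc → X.e a ha (X.co ha u * X.co ha v) = u * v := fun {u v} hu hv => by
    rw [map_mul, X.e_co ha (hFa hu).1, X.e_co ha (hFa hv).1,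
      show a * u * (a * v) = a * (u * a) * v by group, ← (hFa hu).1.2.2.eq,
      show a * (a * u) * v = a * a * (u * v) by group, X.inv a ha, one_mul]
  have hrange : f.range = H₀ := by
    rw [MonoidHom.range_eq_map, ← htop, MonoidHom.map_closure, hH₀]
    congr 1
    ext g
    constructor
    · rintro ⟨t, ⟨u, v, hu, hv, e⟩, rfl⟩
      exact ⟨_, ⟨u, hu, rfl⟩, _, ⟨v, hv, rfl⟩, X.inj a ha (by rw [hprod hu hv, ← e]; exact (hw t).symm)⟩
    · rintro ⟨_, ⟨u, hu, rfl⟩, _, ⟨v, hv, rfl⟩, rfl⟩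
      obtain ⟨t, ht, e⟩ := hS hu hv
      exact ⟨t, ht, X.inj a ha (by rw [hprod hu hv, ← e]; exact (hw t).symm)⟩
  refine ⟨a, ha, x, c, hx, hax, hc, ⟨?_⟩, fun h hh p hp => ?_⟩
  · exact (MulEquiv.subgroupCongr hrange).symm.trans (MonoidHom.ofInjective hf).symm
  -- the stabiliser
  obtain ⟨p, hpF, rfl⟩ := hp
  set g := X.e a ha h with hg
  have hga : Commute a g := X.comm a ha h
  have hEc : ∀ s ∈ E, h * s * h⁻¹ ∈ E := fun s hs => (base_of_data K).hD.2.1 h s hs
  have himg : ∀ y ∈ Fc, g * y * g⁻¹ ∈ Fc := fun y hy => by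
    obtain ⟨hm, hco⟩ := X.co_conj ha (g := g) (Or.inl rfl) hEc (hFa hy).1
    obtain ⟨v, hv, hve⟩ := hh _ ⟨y, hy, rfl⟩
    rw [← hco] at hve
    rwa [← X.co_inj ha (hFa hv).1 hm hve]
  have hback : ∀ y ∈ Fc, g⁻¹ * y * g ∈ Fc := by
    have heq : (fun y => g * y * g⁻¹) '' Fc = Fc :=
      Set.eq_of_subset_of_ncard_le (Set.image_subset_iff.2 himg)
        (by rw [Set.ncard_image_of_injective _ fun u v e => mul_left_cancel (mul_right_cancel e)]) (Set.toFinite _)
    intro y hy
    obtain ⟨v, hv, rfl⟩ := heq.symm ▸ hy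
    rwa [show g⁻¹ * (g * v * g⁻¹) * g = v by group]
  set x'' := g * x * g⁻¹ with hx''
  have hx''D : x'' ∈ D := K.hD.2.1 g x hx
  have hfixa : g * a * g⁻¹ = a := by rw [← hga.eq, mul_inv_cancel_right]
  have hax'' : ¬ Commute a x'' := fun e => hax (by
    rw [← hfixa] at e; exact (commute_conj_iff g a x).1 e)
  have hcomp : ∀ y ∈ Fc, Commute x'' y := fun y hy => by
    have h2 := (commute_conj_iff g x (g⁻¹ * y * g)).2 (hFa (hback y hy)).2.2.2
    simpa [mul_assoc, hx''] using h2
  have hperpx : ∀ {v}, v ∈ Fc → a ∈ perp D v ∧ x ∈ perp D v ∧ x'' ∈ perp D v := fun {v} hv => by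
    obtain ⟨h1, h2⟩ := X.mem_perp_of_common ha hx (hFa hv)
    exact ⟨h1, h2, hx''D, fun e => hax'' (e ▸ (hFa hv).1.2.2), (hcomp v hv).symm⟩
  obtain ⟨q, hq, hqc, hcq⟩ := Set.nonempty_of_ncard_ne_zero
    (s := {y | y ∈ perp₂ D a x ∧ (y ≠ c ∧ Commute c y)})
    (by rw [K.S.ncard_trace_nbr ha hx hax hc]; norm_num)
  have hqF : q ∈ Fc := comp_step (mem_comp_self _ _) hc hq hcq
  obtain ⟨a1, a2, a3⟩ := hperpx (v := c) (mem_comp_self _ _)
  obtain ⟨b1, b2, b3⟩ := hperpx hqF
  have hline := X.line_near (base_of_data K) (a := a) (p := c) (q := q) (k₁ := x) (k₂ := x'') hc.1.1 hq.1.1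
    a1 b1 ⟨hc.1.1, hqc.symm, hcq.symm⟩ a2 b2 a3 b3 hax hax'' (fun y hy _ hcy hxy =>
      hcomp y (comp_step (mem_comp_self _ _) hc ⟨hy.1, hy.1.1, fun e => hax (e ▸ hy.1.2.2), hxy⟩ hcy))
  -- an element of the centraliser of the pair acting as `h`
  have main : ∀ k : G, Commute a k → k * x * k⁻¹ = x → (k = g ∨ k = a * g) →
      h ∈ H₀ ∨ h * X.co ha p ∈ H₀ := by
    intro k hka hkx hk
    have hkC : k ∈ Subgroup.centralizer ({a, x} : Set G) := Subgroup.mem_centralizer_iff.2 (by
      rintro v (rfl | rfl)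
      · exact hka.eq
      · exact (mul_inv_eq_iff_eq_mul.1 hkx).symm)
    set k' : ↥(Subgroup.centralizer ({a, x} : Set G)) := ⟨k, hkC⟩
    have hp' := hFa hpF
    have hconjp : k * p * k⁻¹ ∈ Fc := by
      rcases hk with rfl | rfl
      · exact himg p hpF
      · have h3 := himg p hpF
        rw [show a * g * p * (a * g)⁻¹ = a * (g * p * g⁻¹) * a⁻¹ by group, (hFa h3).1.2.2.eq, mul_inv_cancel_right]
        exact h3
    have hl : A.lab k' * A.lab (A.el hp') = A.lab (A.el hp') * A.lab k' := by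
      have e := lab_of_comp K A hc hconjp
      rw [show A.el (comp_subset hc hconjp) = k' * A.el hp' * k'⁻¹ from Subtype.ext rfl, map_mul, map_mul,
        map_inv, ← lab_of_comp K A hc hpF] at e
      exact mul_inv_eq_iff_eq_mul.1 e
    rcases perm_three_comm _ (A.lab k') (A.lab_el_sq K.hD hp') (A.lab_el_ne hp') hl with e | e
    · obtain ⟨t, ht⟩ := A.eq_pre e
      left
      have h4 : k = X.e a ha (w t) := (congrArg Subtype.val ht).trans (hw t)
      rcases hk with rfl | rfl
      · rw [← hrange]; exact ⟨t, (X.inj a ha h4).symm⟩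
      · exfalso
        refine X.not_mem a ha (w t * h⁻¹) ?_
        rw [map_mul, map_inv, ← h4, mul_inv_cancel_right]
    · obtain ⟨t, ht⟩ := A.eq_pre (g := k' * A.el hp') (by rw [map_mul, e, A.lab_el_sq K.hD hp'])
      right
      have h4 : k * p = X.e a ha (w t) := (congrArg Subtype.val ht).trans (hw t)
      have h5 : g * a * p = X.e a ha (h * X.co ha p) := by rw [map_mul, X.e_co ha hp'.1, ← hg, mul_assoc]
      rcases hk with rfl | rfl
      · exfalso
        refine X.not_mem a ha ((w t)⁻¹ * (h * X.co ha p)) ?_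
        rw [map_mul, map_inv, ← h4, ← h5, show (g * p)⁻¹ * (g * a * p) = p⁻¹ * (a * p) by group, hp'.1.2.2.eq,
          inv_mul_cancel_left]
      · rw [← hrange]
        refine ⟨t, X.inj a ha ?_⟩
        show X.e a ha (w t) = _
        rw [← h4, ← h5, hga.eq]
  rcases hline with e | e
  · exact main g hga e (Or.inl rfl)
  · refine main (a * g) ((Commute.refl a).mul_right hga) ?_ (Or.inr rfl)
    rw [show a * g * x * (a * g)⁻¹ = a * (g * x * g⁻¹) * a⁻¹ by group, ← hx'', e, X.inv_eq ha,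
      show a * (a * x * a) * a = a * a * x * (a * a) by group, X.inv a ha, one_mul, mul_one]

end facts

section special

open Cfsg.Agent.Lib.FischerMTypes83.Triality Cfsg.Agent.Lib.O8Three.Rep

attribute [local instance] FischerMTypes83.Triality.finite_T'

variable (K : Data24 D E E₂ F) (X : Space D E) (heven : ∀ a (ha : a ∈ D) (q : Q), X.e a ha q ∈ commutator G)

include K in
/-- a product of three coordinates is a product of four transpositions -/
theorem prod_four {a : G} (ha : a ∈ D) {q : Q} (hq : IsProd E 3 q) : IsProd D 4 (X.e a ha q) := by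
  obtain ⟨l, hn, hlen, hE, hc, rfl⟩ := hq
  match l, hlen with
  | [s₁, s₂, s₃], _ =>
    have h1 := hE s₁ (by simp)
    have h2 := hE s₂ (by simp)
    have h3 := hE s₃ (by simp)
    simp only [List.nodup_cons, List.mem_cons, List.not_mem_nil, or_false, not_or, List.nodup_nil, and_true,
      not_false_eq_true] at hn
    have hne : ∀ {s t : Q}, s ≠ t → a * X.e a ha s ≠ a * X.e a ha t :=
      fun h e => h (X.inj a ha (mul_left_cancel e))
    have hcm : ∀ {s t : Q}, s ∈ E → t ∈ E → Commute s t → Commute (a * X.e a ha s) (a * X.e a ha t) :=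
      fun {s t} hs ht h => by
        rw [← X.co_commute ha (X.mul_e_mem ha hs) (X.mul_e_mem ha ht), X.co_mul ha hs, X.co_mul ha ht]; exact h
    have c12 : Commute s₁ s₂ := hc s₁ (by simp) s₂ (by simp)
    have c13 : Commute s₁ s₃ := hc s₁ (by simp) s₃ (by simp)
    have c23 : Commute s₂ s₃ := hc s₂ (by simp) s₃ (by simp)
    refine ⟨[a, a * X.e a ha s₁, a * X.e a ha s₂, a * X.e a ha s₃], ?_, rfl, ?_, ?_, ?_⟩
    · simp only [List.nodup_cons, List.mem_cons, List.not_mem_nil, or_false, not_or, List.nodup_nil, and_true,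
        not_false_eq_true]
      exact ⟨⟨(X.mul_e_mem ha h1).2.1.symm, (X.mul_e_mem ha h2).2.1.symm, (X.mul_e_mem ha h3).2.1.symm⟩,
        ⟨hne hn.1.1, hne hn.1.2⟩, hne hn.2⟩
    · simp only [List.mem_cons, List.not_mem_nil, or_false]
      rintro v (rfl | rfl | rfl | rfl)
      exacts [ha, (X.mul_e_mem ha h1).1, (X.mul_e_mem ha h2).1, (X.mul_e_mem ha h3).1]
    · simp only [List.mem_cons, List.not_mem_nil, or_false]
      rintro v (rfl | rfl | rfl | rfl) w (rfl | rfl | rfl | rfl)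
      all_goals first
        | exact Commute.refl _
        | exact (X.mul_e_mem ha h1).2.2 | exact (X.mul_e_mem ha h1).2.2.symm
        | exact (X.mul_e_mem ha h2).2.2 | exact (X.mul_e_mem ha h2).2.2.symm
        | exact (X.mul_e_mem ha h3).2.2 | exact (X.mul_e_mem ha h3).2.2.symm
        | exact hcm h1 h2 c12 | exact (hcm h1 h2 c12).symm
        | exact hcm h1 h3 c13 | exact (hcm h1 h3 c13).symm
        | exact hcm h2 h3 c23 | exact (hcm h2 h3 c23).symm
    · simp only [List.prod_cons, List.prod_nil, mul_one, map_mul, ← mul_assoc, X.inv a ha, one_mul]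
      rw [show X.e a ha s₁ * a * X.e a ha s₂ * a * X.e a ha s₃ =
        X.e a ha s₁ * (a * X.e a ha s₂ * a) * X.e a ha s₃ by group, (X.comm a ha s₂).eq,
        mul_assoc (X.e a ha s₂), X.inv a ha, mul_one]

include K in
theorem near_in_facts {a : G} (ha : a ∈ D) {q : Q} (hq : IsProd E 3 q) {x : G} (hx : x ∈ D)
    (hzx : Commute (X.e a ha q) x) (hax : ¬ Commute a x) :
    ∃ c ∈ perp₂ D a x, Commute (X.e a ha q) c := by
  classical
  letI := Fintype.ofFinite G
  have hz := prod_four K X ha hq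
  obtain ⟨A⟩ := FischerQuad75.exists_lab (K := K) hz
  obtain ⟨i, hi⟩ := A.exists_point hz ha (X.comm a ha q)
  obtain ⟨j, hj⟩ := A.exists_point hz hx hzx.symm
  have hij : i ≠ j := fun e => hax (A.comm_adj (Or.inr e) hi hj)
  have hadj : FischerQuad75.adjB i j = false :=
    Bool.eq_false_iff.2 fun e => hax (A.comm_adj (Or.inl e) hi hj)
  obtain ⟨k, hik, hjk⟩ := common_adj hij hadj
  obtain ⟨c, hc⟩ := A.exists_mem k
  have hac : Commute a c := A.comm_adj (Or.inl hik) hi hc
  have hxc : Commute x c := A.comm_adj (Or.inl hjk) hj hc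
  exact ⟨c, ⟨⟨A.mem_D hc, fun e => hax (e ▸ hxc.symm), hac⟩, A.mem_D hc, fun e => hax (e ▸ hac), hxc⟩,
    (A.comm_z hc).symm⟩

include K heven in
theorem special_facts {a x : G} (ha : a ∈ D) (hx : x ∈ D) (hax : ¬ Commute a x) (A : Act D a x) :
    ∃ (q : Q) (c₁ c₂ : G), IsProd E 3 q ∧ c₁ ∈ perp₂ D a x ∧ c₂ ∈ perp₂ D a x ∧
      c₂ ∉ comp (perp₂ D a x) c₁ ∧
      Commute (X.e a ha q) x ∧ Commute (X.e a ha q) c₁ ∧ Commute (X.e a ha q) c₂ := by
  obtain ⟨b, hb, hlb⟩ := A.exists_el K.hD (s := Equiv.swap 0 1) (by decide) (by decide)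
  obtain ⟨c, hc, hlc⟩ := A.exists_el K.hD (s := Equiv.swap 0 2) (by decide) (by decide)
  have hne : A.lab (A.el hb) ≠ A.lab (A.el hc) := by rw [hlb, hlc]; decide
  obtain ⟨iso⟩ := A.cross_iso K.hD hb hc hne
  haveI : Fact (Nat.Prime 2) := ⟨Nat.prime_two⟩
  obtain ⟨⟨z, hz⟩, hzo⟩ := exists_prime_orderOf_dvd_card'
    (G := ↥(Subgroup.centralizer ({a, x, b, c} : Set G))) 2
    (by rw [Nat.card_congr iso.toEquiv, GTwo.card_G2]; norm_num)
  rw [Subgroup.orderOf_mk] at hzo
  have hzm := Subgroup.mem_centralizer_iff.1 hz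
  have hza : Commute a z := hzm a (by simp)
  have hzx : Commute x z := hzm x (by simp)
  have hzb : Commute b z := hzm b (by simp)
  have hzc : Commute c z := hzm c (by simp)
  have hzC : z ∈ Subgroup.centralizer ({a, x} : Set G) := Subgroup.mem_centralizer_iff.2 (by
    rintro v (rfl | rfl)
    exacts [hza.eq, hzx.eq])
  set z' : ↥(Subgroup.centralizer ({a, x} : Set G)) := ⟨z, hzC⟩
  have hl : ∀ {v} (hv : v ∈ perp₂ D a x), Commute v z →
      A.lab z' * A.lab (A.el hv) = A.lab (A.el hv) * A.lab z' := fun {v} hv h => by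
    rw [← map_mul, ← map_mul, show z' * A.el hv = A.el hv * z' from Subtype.ext h.eq.symm]
  have hlz : A.lab z' = 1 := by
    rcases perm_three_comm _ (A.lab z') (A.lab_el_sq K.hD hb) (A.lab_el_ne hb) (hl hb hzb) with e | e
    · exact e
    rcases perm_three_comm _ (A.lab z') (A.lab_el_sq K.hD hc) (A.lab_el_ne hc) (hl hc hzc) with e' | e'
    · exact e'
    · exact absurd (e.symm.trans e') hne
  obtain ⟨t, ht⟩ := A.eq_pre hlz
  obtain ⟨q, hq⟩ := eq_e_of_even K X heven ha hza (by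
    rw [show z = (A.pre t : G) from congrArg Subtype.val ht]; exact pre_commutator K A t)
  have hqo : orderOf q = 2 := by rw [← orderOf_injective _ (X.inj a ha), ← hq, hzo]
  have hbc : b ∈ perp₂ D a x ∧ c ∈ perp₂ D a x := ⟨hb, hc⟩
  -- no pair has this product
  have hpair : ∀ u v, u ∈ D → v ∈ D → u ≠ v → Commute u v → z ≠ u * v := by
    intro u v hu hv hne' huv he
    have hsplit : ∀ {y}, y ∈ D → Commute y z → Commute y u ∧ Commute y v := fun {y} hy h =>
      comm_of_comm_mul K.hD.1 hu hv hy huv hne' (he ▸ h)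
    obtain ⟨au, -⟩ := hsplit ha hza
    obtain ⟨xu, -⟩ := hsplit hx hzx
    obtain ⟨bu, -⟩ := hsplit hb.1.1 hzb
    obtain ⟨cu, -⟩ := hsplit hc.1.1 hzc
    have huT : u ∈ perp₂ D a x :=
      ⟨⟨hu, fun e => hax (e ▸ xu).symm, au⟩, hu, fun e => hax (e ▸ au), xu⟩
    exact hne ((lab_eq_of_commute K A hb huT bu).trans (lab_eq_of_commute K A hc huT cu).symm)
  obtain ⟨m, h1, h3, hm⟩ := (base_of_data K).classes.1 q hqo
  have hm3 : IsProd E 3 q := by
    obtain ⟨l, hn, hlen, hE, hcm, hp⟩ := hm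
    interval_cases m
    · exfalso
      match l, hlen with
      | [s], _ =>
        obtain rfl : s = q := by simpa using hp
        have hy := X.mul_e_mem ha (hE s (by simp))
        refine hpair a _ ha hy.1 (Ne.symm hy.2.1) hy.2.2 ?_
        rw [← mul_assoc, X.inv a ha, one_mul, hq]
    · exfalso
      match l, hlen with
      | [s, t'], _ =>
        obtain rfl : s * t' = q := by simpa using hp
        have hs := X.mul_e_mem ha (hE s (by simp))
        have ht' := X.mul_e_mem ha (hE t' (by simp))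
        refine hpair _ _ hs.1 ht'.1 (fun e => (by simpa using hn : s ≠ t') (X.inj a ha (mul_left_cancel e))) ?_ ?_
        · rw [← X.co_commute ha hs ht', X.co_mul ha (hE s (by simp)), X.co_mul ha (hE t' (by simp))]
          exact hcm s (by simp) t' (by simp)
        · rw [hq, map_mul, show a * X.e a ha s * (a * X.e a ha t') = a * (X.e a ha s * a) * X.e a ha t' by group,
            ← (X.comm a ha s).eq, ← mul_assoc a a, X.inv a ha, one_mul]
    · exact ⟨l, hn, hlen, hE, hcm, hp⟩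
  refine ⟨q, b, c, hm3, hb, hc, fun h => hne ?_, hq ▸ hzx.symm, hq ▸ hzb.symm, hq ▸ hzc.symm⟩
  exact (lab_of_comp K A hb h).symm

include K heven in
/-- the facts -/
theorem model_facts : ModelFacts X ∧ OmegaFacts X := by
  obtain ⟨d, hd, c, hc, hdc, -⟩ := K.h24.2
  obtain ⟨A⟩ := exists_act_of_data K hd hc hdc
  obtain ⟨q, c₁, c₂, h1, h2, h3, h4, h5, h6, h7⟩ := special_facts K X heven hd hc hdc A
  refine ⟨⟨fun a ha x v hx hax hv => ?_, fun a ha q hq x hx hzx hax => near_in_facts K X ha hq hx hzx hax,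
    ⟨d, hd, q, c, c₁, c₂, h1, hc, hdc, h2, h3, h4, h5, h6, h7⟩⟩,
    omega_facts K A X heven hd hc hdc h2⟩
  obtain ⟨A'⟩ := exists_act_of_data K ha hx hax
  exact (fibre_eq K A' ha hx hax hv).2

end special

end Cfsg.Agent.Lib.FischerTop83
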