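import Mathlib
import Cfsg.Agent.Lib.FischerTop83.Model

/-!
A connected space whose traces are bounded by the model is a group of type M(24).
-/

set_option autoImplicit false
set_option linter.style.haveILetI false
set_option linter.unusedSectionVars false

namespace Cfsg.Agent.Lib.FischerTop83

open Cfsg.Agent.Lib.FischerMTypes.Basic Cfsg.Agent.Lib.FischerMTypes.Primitive
  Cfsg.Agent.Lib.FischerMTypes.Step Cfsg.Agent.Lib.FischerMTypes

universe u v

variable {G : Type u} [Group G] [Finite G] {D : Set G} {Q : Type v} [Group Q] [Finite Q] {E : Set Q}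
  {Q₂ : Type v} [Group Q₂] [Finite Q₂] {E₂ : Set Q₂} {F : Type} [Field F] [Fintype F]
  {G' : Type v} [Group G'] [Finite G'] {D' : Set G'}

/-- the standing hypotheses of recognition -/
structure Recog (X : Space D E) (X' : Space D' E) : Prop where
  hidx : (MulAut.conj (G := Q₂)).range.index = 2
  M : ModelFacts X'
  O : OmegaFacts X'
  top : Subgroup.closure D = ⊤
  conn : ∀ a ∈ D, ∀ b ∈ D, b ∈ comp D a
  ne : D.Nonempty
  bound : ∀ a (ha : a ∈ D) (a' : G') (ha' : a' ∈ D') (q : Q), IsProd E 3 q →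
    {y | y ∈ D ∧ Commute (X.e a ha q) y}.ncard ≤ {y | y ∈ D' ∧ Commute (X'.e a' ha' q) y}.ncard

section

variable {X : Space D E} {X' : Space D' E} (B : Base23 E E₂ F) (R : Recog (Q₂ := Q₂) X X')

include B R in
theorem trace_card {a x : G} (ha : a ∈ D) (hx : x ∈ D) (hax : ¬ Commute a x) (hne : (perp₂ D a x).Nonempty) :
    (perp₂ D a x).ncard = 3240 :=
  trace_3240 X X' B R.hidx R.M ha (R.bound a ha) hx hax hne

include B R in
/-- two members commute or have a common neighbour -/
theorem diameter {a x : G} (ha : a ∈ D) (hx : x ∈ D) : Commute a x ∨ (perp₂ D a x).Nonempty := by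
  have h := R.conn a ha x hx
  clear hx
  induction h with
  | refl => exact Or.inl (Commute.refl a)
  | @tail u v _ huv ih =>
    obtain ⟨hu, hv, hne, huv⟩ := huv
    by_cases hav : Commute a v
    · exact Or.inl hav
    refine Or.inr ?_
    by_cases hau : Commute a u
    · by_cases he : u = a
      · exact absurd (he ▸ huv) hav
      · exact ⟨u, ⟨hu, he, hau⟩, hu, hne.symm, huv.symm⟩
    · obtain ⟨c, hc⟩ := ih.resolve_left hau
      have hc' : c ∈ perp₂ D u a := ⟨hc.2, hc.1⟩
      have hua : ¬ Commute u a := fun h => hau h.symm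
      obtain ⟨-, hall⟩ := X.trace_le B hu ha hua
      have hv' : v ∈ perp D u := ⟨hv, hne, huv⟩
      by_cases hvT : v ∈ perp₂ D u a
      · exact absurd hvT.2.2.2 hav
      obtain ⟨p, hp, hvp⟩ := hall (trace_card B R hu ha hua ⟨c, hc'⟩) v hv' hvT
      exact ⟨p, hp.2, hp.2.1, fun e => hav (e ▸ hp.2.2.2), hvp⟩

include B R in
theorem near {a x : G} (ha : a ∈ D) (hx : x ∈ D) (hax : ¬ Commute a x) : (perp₂ D a x).Nonempty :=
  (diameter B R ha hx).resolve_left hax

theorem ne_one_of_mem (X : Space D E) {a : G} (ha : a ∈ D) : a ≠ 1 := fun h =>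
  X.not_mem a ha 1 (by rw [map_one]; exact h.symm)

theorem closed_conj (X : Space D E) (htop : Subgroup.closure D = ⊤) (g : G) {y : G} (hy : y ∈ D) :
    g * y * g⁻¹ ∈ D :=
  X.conj_mem (htop ▸ Subgroup.mem_top g) hy

include B R in
theorem transposition_group : Cfsg.IsThreeTranspositionGroup D := by
  refine ⟨⟨fun a ha => orderOf_eq_prime (by rw [sq, X.inv a ha]) (ne_one_of_mem X ha), fun a ha x hx => ?_⟩,
    fun g y hy => closed_conj X R.top g hy, R.top⟩
  by_cases hax : Commute a x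
  · exact Or.inl (by rw [hax.mul_pow, sq, sq, X.inv a ha, X.inv x hx, one_mul])
  refine Or.inr ?_
  obtain ⟨c, hc⟩ := near B R ha hx hax
  obtain ⟨hac, hxc⟩ := X.mem_perp_of_common ha hx hc
  have hnc : ¬ Commute (X.co hc.1.1 a) (X.co hc.1.1 x) := fun h => hax ((X.co_commute _ hac hxc).1 h)
  have h3 := cube_eq_one B.hD.1 (X.co_mem hc.1.1 hac) (X.co_mem hc.1.1 hxc) hnc
  have e : a * x = X.e c hc.1.1 (X.co hc.1.1 a * X.co hc.1.1 x) := by
    rw [map_mul, X.e_co hc.1.1 hac, X.e_co hc.1.1 hxc, show c * a * (c * x) = c * (a * c) * x by group,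
      hc.1.2.2.eq, ← mul_assoc c c, X.inv c hc.1.1, one_mul]
  rw [e, ← map_pow, h3, map_one]

include B R in
theorem transposition_class : Cfsg.IsThreeTranspositionClass D := by
  obtain ⟨hset, hclosed, htop⟩ := transposition_group B R
  obtain ⟨d, hd⟩ := R.ne
  refine ⟨hset, ⟨d, hd, Set.ext fun y => ⟨fun hy => ?_, fun hy => ?_⟩⟩, htop⟩
  · have h := R.conn d hd y hy
    clear hy
    induction h with
    | refl => exact IsConj.refl d
    | @tail u v _ huv ih =>
      obtain ⟨σ, -, h1, -⟩ := X.exists_swap B huv.1 ⟨huv.2.1, huv.2.2.1, huv.2.2.2⟩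
      exact IsConj.trans ih (isConj_iff.2 ⟨σ, h1⟩)
  · obtain ⟨g, rfl⟩ := isConj_iff.1 hy
    exact hclosed g d hd

include B R in
theorem primitive : Cfsg.IsPrimitiveUnderConj D := by
  have hT := transposition_class B R
  obtain ⟨-, ⟨d, hd, hcls⟩, -⟩ := hT
  obtain ⟨s, hs, -⟩ := B.hprim.2.1
  refine ⟨fun a ha b hb => ?_, ⟨d, hd, _, (X.mul_e_mem hd hs).1, Ne.symm (X.mul_e_mem hd hs).2.1⟩, fun Bl hBD hblock => ?_⟩
  · rw [hcls] at ha hb
    exact isConj_iff.1 (IsConj.trans (IsConj.symm ha) hb)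
  by_cases hsub : Bl.Subsingleton
  · exact Or.inl hsub
  refine Or.inr (Set.Subset.antisymm hBD ?_)
  -- an element fixing a member of the block fixes the block
  have hfix : ∀ a ∈ Bl, ∀ g : G, g * a * g⁻¹ = a → ∀ y ∈ Bl, g * y * g⁻¹ ∈ Bl := by
    intro a ha g hg y hy
    rcases hblock g with h | h
    · exact h ▸ ⟨y, hy, rfl⟩
    · exact absurd ha (Set.disjoint_left.1 h ⟨a, ha, hg⟩)
  -- two commuting members bring all neighbours
  have hperp : ∀ a ∈ Bl, ∀ b ∈ Bl, b ∈ perp D a → perp D a ⊆ Bl := by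
    intro a ha b hb hab y hy
    have haD := hBD ha
    obtain ⟨r, hr⟩ := B.hprim.1 _ (X.co_mem haD hab) _ (X.co_mem haD hy)
    obtain ⟨hm, hco⟩ := X.co_conj haD (g := X.e a haD r) (Or.inl rfl) (fun s hs => B.hD.2.1 r s hs) hab
    have h1 := hfix a ha (X.e a haD r) (by rw [← (X.comm a haD r).eq, mul_inv_cancel_right]) b hb
    rwa [X.co_inj haD hm hy (hco.trans hr)] at h1
  obtain ⟨a, ha, b, hb, hab⟩ : ∃ a ∈ Bl, ∃ b ∈ Bl, a ≠ b := by
    by_contra h
    push Not at h
    exact hsub fun a ha b hb => h a ha b hb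
  have haD := hBD ha
  -- the block has an edge
  obtain ⟨p, hp, q, hq, hpq⟩ : ∃ p ∈ Bl, ∃ q ∈ Bl, q ∈ perp D p := by
    by_cases hcab : Commute a b
    · exact ⟨a, ha, b, hb, hBD hb, hab.symm, hcab⟩
    have hbD := hBD hb
    have hall : ∀ y ∈ D, ¬ Commute a y → y ∈ Bl := fun y hy hay => by
      obtain ⟨g, -, g1, g2⟩ := X.trans_near B haD hbD hcab (near B R haD hbD hcab) hy hay (near B R haD hy hay)
      exact g2 ▸ hfix a ha g g1 b hb
    obtain ⟨y, hy, hyT⟩ : ∃ y ∈ perp D b, y ∉ perp₂ D b a := by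
      by_contra h
      push Not at h
      have hle := Set.ncard_le_ncard (fun y hy => h y hy) (Set.toFinite (perp₂ D b a))
      have h1 := (X.trace_le B hbD haD (fun h => hcab h.symm)).1
      have h2 : E.ncard ≤ (perp D b).ncard := Set.ncard_le_ncard_of_injOn (fun s => b * X.e b hbD s)
        (fun s hs => X.mul_e_mem hbD hs) (fun s _ t _ h => X.inj b hbD (mul_left_cancel h)) (Set.toFinite _)
      rw [B.rank.class_card] at h2
      omega
    refine ⟨b, hb, y, hall y hy.1 fun h => hyT ⟨hy, hy.1, fun e => hcab (e ▸ hy.2.2.symm), h⟩, hy⟩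
  have hedge : ∀ y ∈ comp D p, y ∈ Bl ∧ perp D y ⊆ Bl := by
    intro y hy
    induction hy with
    | refl => exact ⟨hp, hperp p hp q hq hpq⟩
    | @tail u v _ huv ih =>
      obtain ⟨hu, hv, hne, hc⟩ := huv
      have hvB : v ∈ Bl := ih.2 ⟨hv, hne, hc⟩
      exact ⟨hvB, hperp v hvB u ih.1 ⟨hu, hne.symm, hc.symm⟩⟩
  exact fun y hy => (hedge y (R.conn p (hBD hp) y hy)).1

/-- a quotient by the centre seen through a map whose kernel is the centre -/
theorem quotient_center_equiv {L P : Type*} [Group L] [Group P] (f : L →* P) (hf : Function.Surjective f)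
    (hP : Subgroup.center P = ⊥) (hk : f.ker ≤ Subgroup.center L) :
    ∃ e : L ⧸ Subgroup.center L ≃* P, ∀ x : L, e (QuotientGroup.mk x) = f x := by
  have h : Subgroup.center L = f.ker := by
    refine le_antisymm (fun x hx => ?_) hk
    rw [MonoidHom.mem_ker, ← Subgroup.mem_bot, ← hP, Subgroup.mem_center_iff]
    intro y
    obtain ⟨y, rfl⟩ := hf y
    rw [← map_mul, ← map_mul, Subgroup.mem_center_iff.1 hx y]
  exact ⟨(QuotientGroup.quotientMulEquivOfEq h).trans (QuotientGroup.quotientKerEquivOfSurjective f hf),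
    fun x => rfl⟩

include B in
/-- a group generated by neighbours of `a` maps to `Q` with central kernel -/
theorem exists_proj {a : G} (ha : a ∈ D) {T : Set G} (hT : T ⊆ perp D a) :
    ∃ f : ↥(Subgroup.closure T) →* ↥(Subgroup.closure (X.co ha '' T)), Function.Surjective f ∧
      f.ker ≤ Subgroup.center ↥(Subgroup.closure T) ∧
      ∀ y (hy : y ∈ T), (f ⟨y, Subgroup.subset_closure hy⟩ : Q) = X.co ha y := by
  obtain ⟨π, hπ⟩ := X.exists_part ha
  have hle : Subgroup.closure T ≤ Subgroup.centralizer ({a} : Set G) := (Subgroup.closure_le _).2 fun y hy =>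
    Subgroup.mem_centralizer_singleton_iff.2 (hT hy).2.2.symm.eq
  let g : ↥(Subgroup.closure T) →* Q := π.comp (Subgroup.inclusion hle)
  have hg : ∀ y (hy : y ∈ T), g ⟨y, Subgroup.subset_closure hy⟩ = X.co ha y := fun y hy =>
    hπ _ _ (Or.inr (X.co_spec ha (hT hy)).2)
  have hrange : g.range = Subgroup.closure (X.co ha '' T) := by
    rw [MonoidHom.range_eq_map, ← (Subgroup.closure_preimage_eq_top T), MonoidHom.map_closure]
    congr 1
    ext q
    constructor
    · rintro ⟨⟨y, hy'⟩, hy, rfl⟩; exact ⟨y, hy, (hg y hy).symm⟩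
    · rintro ⟨y, hy, rfl⟩; exact ⟨⟨y, Subgroup.subset_closure hy⟩, hy, hg y hy⟩
  refine ⟨(MulEquiv.subgroupCongr hrange).toMonoidHom.comp g.rangeRestrict,
    (MulEquiv.subgroupCongr hrange).surjective.comp g.rangeRestrict_surjective, fun x hx => ?_,
    fun y hy => hg y hy⟩
  have hx1 : g x = 1 := congrArg Subtype.val (MonoidHom.mem_ker.1 hx)
  have hcomm : ∀ y ∈ T, Commute (x : G) y := fun y hy => by
    obtain ⟨q, hq⟩ := X.cent a ha (x : G) (Subgroup.mem_centralizer_singleton_iff.1 (hle x.2)).symm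
    have : q = 1 := (hπ (Subgroup.inclusion hle x) q hq).symm.trans hx1
    subst this
    rw [map_one, mul_one] at hq
    rcases hq with h | h
    · rw [h]; exact Commute.one_left y
    · rw [h]; exact (hT hy).2.2
  refine Subgroup.mem_center_iff.2 fun y => Subtype.ext ?_
  exact (Levels.commute_closure (fun z hz => hcomm z hz) (y : G) y.2).eq.symm

include B R in
theorem center_bot : Subgroup.center G = ⊥ := by
  rw [eq_bot_iff]
  intro k hk
  have hk' : ∀ y, Commute k y := fun y => (Subgroup.mem_center_iff.1 hk y).symm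
  obtain ⟨a, ha⟩ := R.ne
  obtain ⟨q, hq⟩ := X.cent a ha k (hk' a).symm
  have hq1 : q = 1 := by
    rw [← Subgroup.mem_bot, ← B.S.hZ, Subgroup.mem_center_iff]
    intro r
    apply X.inj a ha
    rw [map_mul, map_mul]
    rcases hq with h | h
    · rw [← h]; exact (hk' _).symm.eq
    · have e : X.e a ha q = a * k := by rw [h, ← mul_assoc, X.inv a ha, one_mul]
      rw [e, ← mul_assoc, ← (X.comm a ha r).eq, mul_assoc, mul_assoc, (hk' (X.e a ha r)).eq]
  subst hq1
  rw [map_one, mul_one] at hq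
  rcases hq with h | h
  · exact h
  exfalso
  obtain ⟨s, hs, -⟩ := B.hprim.2.1
  set b := a * X.e a ha s
  have hb := X.mul_e_mem ha hs
  obtain ⟨g, hg⟩ := (primitive B R).1 a ha b hb.1
  have hga : g * a = a * g := by rw [← h]; exact (hk' g).symm.eq
  have hba : b = a := by rw [← hg, hga, mul_inv_cancel_right]
  exact hb.2.1 hba

end

end Cfsg.Agent.Lib.FischerTop83
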