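import Mathlib
import Cfsg.Agent.Lib.FischerTop83.Model
import Cfsg.Agent.Lib.FischerTop83.Recog

/-!
From the outer involution to a space, and the count of conjugates commuting with an involution.
-/

set_option autoImplicit false
set_option linter.style.haveILetI false
set_option linter.unusedSectionVars false

namespace Cfsg.Agent.Lib.FischerTop83

open Cfsg.Agent.Lib.FischerMTypes.Basic Cfsg.Agent.Lib.FischerMTypes.Primitive
  Cfsg.Agent.Lib.FischerMTypes.Step Cfsg.Agent.Lib.FischerMTypes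

universe u v

/-- the orbit of `d` under conjugation by a subgroup -/
theorem conj_count {Γ : Type*} [Group Γ] [Finite Γ] (C : Subgroup Γ) (d : Γ) :
    {y | ∃ g ∈ C, y = g * d * g⁻¹}.ncard * Nat.card ↥(C ⊓ Subgroup.centralizer ({d} : Set Γ)) = Nat.card ↥C := by
  letI A : MulAction ↥C Γ := MulAction.compHom Γ ((ConjAct.toConjAct).toMonoidHom.comp C.subtype)
  have hsmul : ∀ (g : ↥C) (y : Γ), g • y = (g : Γ) * y * (g : Γ)⁻¹ := fun g y => by
    show ConjAct.toConjAct (g : Γ) • y = _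
    rw [ConjAct.toConjAct_smul]
  have h1 : MulAction.orbit ↥C d = {y | ∃ g ∈ C, y = g * d * g⁻¹} := by
    ext y
    constructor
    · rintro ⟨g, rfl⟩; exact ⟨g, g.2, hsmul g d⟩
    · rintro ⟨g, hg, rfl⟩; exact ⟨⟨g, hg⟩, hsmul ⟨g, hg⟩ d⟩
  let e : ↥(MulAction.stabilizer ↥C d) ≃ ↥(C ⊓ Subgroup.centralizer ({d} : Set Γ)) :=
    { toFun := fun g => ⟨((g : ↥C) : Γ), (g : ↥C).2, Subgroup.mem_centralizer_singleton_iff.2
        (mul_inv_eq_iff_eq_mul.1 ((hsmul _ d).symm.trans g.2))⟩
      invFun := fun g => ⟨⟨(g : Γ), g.2.1⟩, MulAction.mem_stabilizer_iff.2 ((hsmul _ d).trans (by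
        rw [Subgroup.mem_centralizer_singleton_iff.1 g.2.2, mul_inv_cancel_right]))⟩
      left_inv := fun g => rfl
      right_inv := fun g => rfl }
  rw [← h1, ← Nat.card_coe_set_eq, ← Nat.card_congr e, ← Nat.card_prod]
  exact Nat.card_congr (MulAction.orbitProdStabilizerEquivGroup ↥C d)

/-- a subgroup with an element outside a subgroup of index two is twice its part inside -/
theorem card_split {Γ : Type*} [Group Γ] [Finite Γ] {G₀ : Subgroup Γ} (hidx : G₀.index = 2) {L : Subgroup Γ}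
    {d : Γ} (hd : d ∈ L) (hd0 : d ∉ G₀) : Nat.card ↥L = 2 * Nat.card ↥(G₀ ⊓ L) := by
  have h2 : (G₀.subgroupOf L).index = 2 := Subgroup.index_eq_two_iff.2 ⟨⟨d, hd⟩, fun b => by
    simp only [Subgroup.mem_subgroupOf, Subgroup.coe_mul, Subgroup.mul_mem_iff_of_index_two hidx]
    by_cases hb : (b : Γ) ∈ G₀
    · exact Or.inr ⟨hb, fun h => hd0 (h.1 hb)⟩
    · exact Or.inl ⟨iff_of_false hb hd0, hb⟩⟩
  rw [← (G₀.subgroupOf L).card_mul_index, h2, mul_comm]
  congr 1
  exact Nat.card_congr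
    { toFun := fun g => ⟨((g : ↥L) : Γ), g.2, (g : ↥L).2⟩
      invFun := fun g => ⟨⟨(g : Γ), g.2.2⟩, g.2.1⟩
      left_inv := fun g => rfl
      right_inv := fun g => rfl }

/-- the centraliser of a member of the chart seen in `Q` -/
theorem cent_card {Γ : Type*} [Group Γ] [Finite Γ] {Q : Type*} [Group Q] [Finite Q] {G₀ : Subgroup Γ} {a : Γ}
    (φ : Q →* Γ) (hφ : Function.Injective φ) (hrange : φ.range = G₀ ⊓ Subgroup.centralizer ({a} : Set Γ))
    (q : Q) :
    Nat.card ↥(G₀ ⊓ (Subgroup.centralizer ({φ q} : Set Γ) ⊓ Subgroup.centralizer ({a} : Set Γ))) =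
      Nat.card ↥(Subgroup.centralizer ({q} : Set Q)) := by
  have hmem : ∀ r : Q, φ r ∈ G₀ ⊓ Subgroup.centralizer ({a} : Set Γ) := fun r => hrange ▸ ⟨r, rfl⟩
  refine (Nat.card_congr (Equiv.ofBijective
    (fun r : ↥(Subgroup.centralizer ({q} : Set Q)) =>
      (⟨φ r, (hmem r).1, Subgroup.mem_centralizer_singleton_iff.2 (by
        rw [← map_mul, ← map_mul, Subgroup.mem_centralizer_singleton_iff.1 r.2]), (hmem r).2⟩ :
        ↥(G₀ ⊓ (Subgroup.centralizer ({φ q} : Set Γ) ⊓ Subgroup.centralizer ({a} : Set Γ)))))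
    ⟨fun r s h => Subtype.ext (hφ (congrArg Subtype.val h)), fun g => ?_⟩)).symm
  obtain ⟨r, hr⟩ : (g : Γ) ∈ φ.range := hrange ▸ ⟨g.2.1, g.2.2.2⟩
  refine ⟨⟨r, Subgroup.mem_centralizer_singleton_iff.2 (hφ ?_)⟩, Subtype.ext hr⟩
  rw [map_mul, map_mul, hr]
  exact Subgroup.mem_centralizer_singleton_iff.1 g.2.2.1

section eleven

variable {Q : Type v} [Group Q] [Finite Q] {Q₂ : Type v} [Group Q₂] [Finite Q₂] {E : Set Q} {E₂ : Set Q₂}
  {F : Type} [Field F] [Fintype F] (B : Base23 E E₂ F)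

include B in
theorem eleven_single {s : Q} (hs : s ∈ E) : 11 ∣ Nat.card ↥(Subgroup.centralizer ({s} : Set Q)) := by
  rw [← B.rank.centralizer s hs]
  refine dvd_trans ?_ (Subgroup.card_dvd_of_surjective _ (B.S.loc s hs).surj)
  rw [OrderWidth.card_group B.S22]
  norm_num

include B in
/-- singles and pairs have an element of order eleven in the centraliser -/
theorem eleven {m : ℕ} (h1 : 1 ≤ m) (h2 : m ≤ 2) {y : Q} (hy : IsProd E m y) :
    11 ∣ Nat.card ↥(Subgroup.centralizer ({y} : Set Q)) := by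
  obtain ⟨l, hn, hlen, hE, hc, rfl⟩ := hy
  interval_cases m
  · match l, hlen with
    | [s], _ => simpa using eleven_single B (hE s (by simp))
  · match l, hlen with
    | [s, t], _ =>
      have hs := hE s (by simp)
      have ht : t ∈ perp E s := ⟨hE t (by simp), fun e => by simp [e] at hn, hc s (by simp) t (by simp)⟩
      have h := conj_count (Subgroup.centralizer ({s} : Set Q)) t
      have horb : {y | ∃ g ∈ Subgroup.centralizer ({s} : Set Q), y = g * t * g⁻¹} = perp E s := by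
        refine Set.Subset.antisymm ?_ fun u hu => ?_
        · rintro _ ⟨g, hg, rfl⟩
          exact conj_mem_of_mem_closure (perp_closed B.hD s) (B.rank.centralizer s hs ▸ hg) _ ht
        · obtain ⟨g, hg, he⟩ := B.rank.trans_perp s hs t ht u hu
          exact ⟨g, B.rank.centralizer s hs ▸ hg, he.symm⟩
      rw [horb, B.rank.perp_card s hs] at h
      have h11 : 11 ∣ 3510 * Nat.card ↥(Subgroup.centralizer ({s} : Set Q) ⊓ Subgroup.centralizer ({t} : Set Q)) :=
        h ▸ eleven_single B hs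
      have h' := (Nat.Coprime.dvd_mul_left (by norm_num : Nat.Coprime 11 3510)).1 h11
      refine h'.trans (Subgroup.card_dvd_of_le fun g hg => Subgroup.mem_centralizer_singleton_iff.2 ?_)
      simp only [List.prod_cons, List.prod_nil, mul_one]
      exact ((show Commute g s from Subgroup.mem_centralizer_singleton_iff.1 hg.1).mul_right
        (Subgroup.mem_centralizer_singleton_iff.1 hg.2)).eq

end eleven

/-- what is known about the outer involution -/
structure Charted {X : Type u} [Group X] (G₀ : Subgroup X) (z : ↥G₀) (d : X) {Q : Type v} [Group Q] (E : Set Q)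
    (φ : Q →* X) : Prop where
  hidx : G₀.index = 2
  sq : d * d = 1
  out : d ∉ G₀
  commZ : Commute d (z : X)
  inj : Function.Injective φ
  range : φ.range = G₀ ⊓ Subgroup.centralizer ({d} : Set X)
  up : ∀ s ∈ E, IsConj d (d * φ s)
  down : ∀ g : X, Commute d (g * d * g⁻¹) → g * d * g⁻¹ = d ∨ ∃ s ∈ E, g * d * g⁻¹ = d * φ s
  ordZ : orderOf z = 2
  cardZ : Nat.card ↥(Subgroup.centralizer ({z} : Set ↥G₀)) = 2 * (3 * 2 ^ 13 * 3265920)

section chart

variable {X : Type u} [Group X] [Finite X] {G₀ : Subgroup X} {z : ↥G₀} {d : X} {Q : Type v} [Group Q] [Finite Q]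
  {E : Set Q} {φ : Q →* X} (H : Charted G₀ z d E φ)

include H in
theorem mem_range {g : X} : g ∈ φ.range ↔ g ∈ G₀ ∧ Commute d g := by
  rw [H.range, Subgroup.mem_inf, Subgroup.mem_centralizer_singleton_iff]
  exact ⟨fun h => ⟨h.1, h.2.symm⟩, fun h => ⟨h.1, h.2.symm⟩⟩

include H in
theorem φ_mem (q : Q) : φ q ∈ G₀ ∧ Commute d (φ q) := (mem_range H).1 ⟨q, rfl⟩

include H in
theorem exists_coord {g : X} (hg : Commute d g) : ∃ q : Q, g = φ q ∨ g = d * φ q := by
  by_cases h : g ∈ G₀
  · obtain ⟨q, hq⟩ := (mem_range H).2 ⟨h, hg⟩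
    exact ⟨q, Or.inl hq.symm⟩
  · obtain ⟨q, hq⟩ := (mem_range H (g := d * g)).2
      ⟨(Subgroup.mul_mem_iff_of_index_two H.hidx).2 (iff_of_false H.out h), (Commute.refl d).mul_right hg⟩
    exact ⟨q, Or.inr (by rw [hq, ← mul_assoc, H.sq, one_mul])⟩

include H in
theorem card_G₀_cent : Nat.card ↥(G₀ ⊓ Subgroup.centralizer ({(z : X)} : Set X)) = 2 * (3 * 2 ^ 13 * 3265920) := by
  rw [← H.cardZ]
  exact Nat.card_congr
    { toFun := fun g => ⟨⟨(g : X), g.2.1⟩, Subgroup.mem_centralizer_singleton_iff.2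
        (Subtype.ext (Subgroup.mem_centralizer_singleton_iff.1 g.2.2))⟩
      invFun := fun g => ⟨((g : ↥G₀) : X), (g : ↥G₀).2, Subgroup.mem_centralizer_singleton_iff.2
        (congrArg Subtype.val (Subgroup.mem_centralizer_singleton_iff.1 g.2))⟩
      left_inv := fun g => rfl
      right_inv := fun g => rfl }

include H in
theorem card_X_cent : Nat.card ↥(Subgroup.centralizer ({(z : X)} : Set X)) = 4 * (3 * 2 ^ 13 * 3265920) := by
  rw [card_split H.hidx (Subgroup.mem_centralizer_singleton_iff.2 H.commZ.eq) H.out, card_G₀_cent H]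
  ring

variable {Q₂ : Type v} [Group Q₂] [Finite Q₂] {E₂ : Set Q₂} {F : Type} [Field F] [Fintype F]
  (B : Base23 E E₂ F)

include H B in
/-- involutions of the chart conjugate to `z` are products of three -/
theorem conj_z_prod {q : Q} {h : X} (hq : h * φ q * h⁻¹ = z) : IsProd E 3 q := by
  have hqo : orderOf q = 2 := by
    rw [← orderOf_injective φ H.inj, ← orderOf_injective (MulAut.conj h).toMonoidHom (MulEquiv.injective _)]
    show orderOf (h * φ q * h⁻¹) = 2
    rw [hq, Subgroup.orderOf_coe, H.ordZ]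
  obtain ⟨m, h1, h3, hm⟩ := B.classes.1 q hqo
  interval_cases m
  all_goals first
    | exact hm
    | exfalso
      have h11 := eleven B (by norm_num) (by norm_num) hm
      rw [← cent_card φ H.inj H.range q] at h11
      haveI := Subgroup.normal_of_index_eq_two H.hidx
      have hle : Nat.card ↥(G₀ ⊓ (Subgroup.centralizer ({φ q} : Set X) ⊓ Subgroup.centralizer ({d} : Set X))) ∣
          Nat.card ↥(G₀ ⊓ Subgroup.centralizer ({(z : X)} : Set X)) := by
        refine (Subgroup.card_dvd_of_le (inf_le_inf le_rfl inf_le_left)).trans (Dvd.dvd.trans (b := Nat.card ↥((G₀ ⊓ Subgroup.centralizer ({φ q} : Set X)).map (MulAut.conj h).toMonoidHom)) (dvd_of_eq ?_) ?_)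
        · exact (Subgroup.card_map_of_injective (K := G₀ ⊓ Subgroup.centralizer ({φ q} : Set X))
            (f := (MulAut.conj h).toMonoidHom) (MulEquiv.injective _)).symm
        · refine Subgroup.card_dvd_of_le ?_
          rintro _ ⟨g, ⟨hg0, hgc⟩, rfl⟩
          refine ⟨(inferInstance : G₀.Normal).conj_mem g hg0 h, Subgroup.mem_centralizer_singleton_iff.2 ?_⟩
          rw [← hq]
          exact ((commute_conj_iff h g (φ q)).2 (Subgroup.mem_centralizer_singleton_iff.1 hgc)).eq
      have := h11.trans hle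
      rw [card_G₀_cent H] at this
      norm_num at this

include H B in
theorem exists_z : ∃ q₀, IsProd E 3 q₀ ∧ φ q₀ = z := by
  obtain ⟨q₀, h0⟩ := (mem_range H).2 ⟨z.2, H.commZ⟩
  exact ⟨q₀, conj_z_prod H B (h := 1) (by simpa using h0), h0⟩

include H B in
/-- the conjugates of `d` in a centraliser -/
theorem count_le {q : Q} (hq : IsProd E 3 q) :
    {y | IsConj d y ∧ Commute (φ q) y}.ncard * (2 * Nat.card ↥(Subgroup.centralizer ({q} : Set Q))) ≤
      4 * (3 * 2 ^ 13 * 3265920) := by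
  haveI := Subgroup.normal_of_index_eq_two H.hidx
  obtain ⟨q₀, h3, h0⟩ := exists_z H B
  obtain ⟨r, hr⟩ := isConj_iff.1 ((B.classes.2.1 3 (by norm_num) le_rfl).2 q q₀ hq h3)
  set L := Subgroup.centralizer ({φ q} : Set X) with hL
  have hsub : {y | IsConj d y ∧ Commute (φ q) y} ⊆ {y | ∃ g ∈ L, y = g * d * g⁻¹} := by
    rintro y ⟨hy, hc⟩
    obtain ⟨g, rfl⟩ := isConj_iff.1 hy
    obtain ⟨q', hq'⟩ := (mem_range H (g := g⁻¹ * φ q * g)).2
      ⟨by simpa using (inferInstance : G₀.Normal).conj_mem _ (φ_mem H q).1 g⁻¹,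
        by simpa [mul_assoc] using ((commute_conj_iff g⁻¹ _ _).2 hc).symm⟩
    have h' : φ r * g * φ q' * (φ r * g)⁻¹ = z := by
      rw [hq', show φ r * g * (g⁻¹ * φ q * g) * (φ r * g)⁻¹ = φ r * φ q * (φ r)⁻¹ by group, ← map_inv,
        ← map_mul, ← map_mul, hr, h0]
    obtain ⟨w, hw⟩ := isConj_iff.1 ((B.classes.2.1 3 (by norm_num) le_rfl).2 q q' hq (conj_z_prod H B h'))
    refine ⟨g * φ w, Subgroup.mem_centralizer_singleton_iff.2 ?_, ?_⟩
    · have e : φ w * φ q * (φ w)⁻¹ = g⁻¹ * φ q * g := by rw [← map_inv, ← map_mul, ← map_mul, hw, hq']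
      calc g * φ w * φ q = g * (φ w * φ q * (φ w)⁻¹) * φ w := by group
        _ = φ q * (g * φ w) := by rw [e]; group
    · rw [mul_inv_rev, show g * φ w * d * ((φ w)⁻¹ * g⁻¹) = g * (φ w * d * (φ w)⁻¹) * g⁻¹ by group,
        (φ_mem H w).2.eq.symm, mul_inv_cancel_right]
  have hcardL : Nat.card ↥L = 4 * (3 * 2 ^ 13 * 3265920) := by
    rw [← card_X_cent H, ← h0, ← hr, map_mul, map_mul, map_inv]
    refine Nat.card_congr
      { toFun := fun g => ⟨φ r * (g : X) * (φ r)⁻¹, Subgroup.mem_centralizer_singleton_iff.2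
          ((commute_conj_iff (φ r) _ _).2 (Subgroup.mem_centralizer_singleton_iff.1 g.2)).eq⟩
        invFun := fun g => ⟨(φ r)⁻¹ * (g : X) * φ r, Subgroup.mem_centralizer_singleton_iff.2 (by
          have := (commute_conj_iff (φ r)⁻¹ _ _).2 (Subgroup.mem_centralizer_singleton_iff.1 g.2)
          simpa [mul_assoc] using this.eq)⟩
        left_inv := fun g => Subtype.ext (by group)
        right_inv := fun g => Subtype.ext (by group) }
  have hd : d ∈ L ⊓ Subgroup.centralizer ({d} : Set X) :=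
    ⟨Subgroup.mem_centralizer_singleton_iff.2 (φ_mem H q).2.eq, Subgroup.mem_centralizer_singleton_iff.2 rfl⟩
  have hstab : Nat.card ↥(L ⊓ Subgroup.centralizer ({d} : Set X)) =
      2 * Nat.card ↥(Subgroup.centralizer ({q} : Set Q)) := by
    rw [card_split H.hidx hd H.out, cent_card φ H.inj H.range q]
  have h := conj_count L d
  rw [hstab, hcardL] at h
  exact (Nat.mul_le_mul_right _ (Set.ncard_le_ncard hsub (Set.toFinite _))).trans h.le

end chart

/-- the model has as many as possible -/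
theorem model_count {G : Type u} [Group G] [Finite G] {D : Set G} {Q : Type v} [Group Q] [Finite Q] {E : Set Q}
    (X : Space D E) (hidx : (commutator G).index = 2) (heven : ∀ a (ha : a ∈ D) (q : Q), X.e a ha q ∈ commutator G)
    (hodd : ∀ a ∈ D, a ∉ commutator G) (hclosed : ∀ g : G, ∀ y ∈ D, g * y * g⁻¹ ∈ D) {a : G} (ha : a ∈ D) (q : Q)
    (hcard : Nat.card ↥(commutator G ⊓ Subgroup.centralizer ({X.e a ha q} : Set G)) = 2 * (3 * 2 ^ 13 * 3265920)) :
    4 * (3 * 2 ^ 13 * 3265920) ≤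
      {y | y ∈ D ∧ Commute (X.e a ha q) y}.ncard * (2 * Nat.card ↥(Subgroup.centralizer ({q} : Set Q))) := by
  set L := Subgroup.centralizer ({X.e a ha q} : Set G) with hL
  have hrange : (X.e a ha).range = commutator G ⊓ Subgroup.centralizer ({a} : Set G) := by
    ext g
    constructor
    · rintro ⟨r, rfl⟩
      exact ⟨heven a ha r, Subgroup.mem_centralizer_singleton_iff.2 (X.comm a ha r).eq.symm⟩
    · rintro ⟨hg0, hgc⟩
      obtain ⟨r, hr | hr⟩ := X.cent a ha g (Subgroup.mem_centralizer_singleton_iff.1 hgc).symm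
      · exact ⟨r, hr.symm⟩
      · exfalso
        rw [hr] at hg0
        exact hodd a ha ((Subgroup.mul_mem_cancel_right _ (heven a ha r)).1 hg0)
  have haL : a ∈ L := Subgroup.mem_centralizer_singleton_iff.2 (X.comm a ha q).eq
  have h := conj_count L a
  rw [card_split hidx haL (hodd a ha), hcard,
    card_split hidx (show a ∈ L ⊓ Subgroup.centralizer ({a} : Set G) from
      ⟨haL, Subgroup.mem_centralizer_singleton_iff.2 rfl⟩) (hodd a ha),
    cent_card (X.e a ha) (X.inj a ha) hrange q] at h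
  have hle : {y | ∃ g ∈ L, y = g * a * g⁻¹}.ncard ≤ {y | y ∈ D ∧ Commute (X.e a ha q) y}.ncard := by
    refine Set.ncard_le_ncard ?_ (Set.toFinite _)
    rintro _ ⟨g, hg, rfl⟩
    refine ⟨hclosed g a ha, ?_⟩
    have e : g * X.e a ha q * g⁻¹ = X.e a ha q := by
      rw [Subgroup.mem_centralizer_singleton_iff.1 hg, mul_inv_cancel_right]
    rw [← e]
    exact (commute_conj_iff g _ _).2 (X.comm a ha q).symm
  calc 4 * (3 * 2 ^ 13 * 3265920) = _ := by rw [show 4 * (3 * 2 ^ 13 * 3265920) = 2 * (2 * (3 * 2 ^ 13 * 3265920)) by norm_num]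
    _ = _ := h.symm
    _ ≤ _ := Nat.mul_le_mul_right _ hle

end Cfsg.Agent.Lib.FischerTop83
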