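import Mathlib
import Cfsg.Agent.Lib.FischerTop83.Count

/-!
The component of the outer involution among its conjugates, as a connected space in the group it generates.
-/

set_option autoImplicit false
set_option linter.style.haveILetI false
set_option linter.unusedSectionVars false

namespace Cfsg.Agent.Lib.FischerTop83

open Cfsg.Agent.Lib.FischerMTypes.Basic Cfsg.Agent.Lib.FischerMTypes.Primitive
  Cfsg.Agent.Lib.FischerMTypes.Step Cfsg.Agent.Lib.FischerMTypes

universe u v

theorem conj_comp {G : Type*} [Group G] {U : Set G} (g : G) (hU : ∀ y ∈ U, g * y * g⁻¹ ∈ U) {c y : G}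
    (h : y ∈ comp U c) : g * y * g⁻¹ ∈ comp U (g * c * g⁻¹) := by
  induction h with
  | refl => exact mem_comp_self _ _
  | tail _ hbc ih => exact comp_step ih (hU _ hbc.1) (hU _ hbc.2.1) ((commute_conj_iff g _ _).2 hbc.2.2.2)

variable {X : Type u} [Group X] [Finite X] {G₀ : Subgroup X} {z : ↥G₀} {d : X} {Q : Type v} [Group Q] [Finite Q]
  {E : Set Q} {φ : Q →* X} (H : Charted G₀ z d E φ)
  {Q₂ : Type v} [Group Q₂] [Finite Q₂] {E₂ : Set Q₂} {F : Type} [Field F] [Fintype F] (B : Base23 E E₂ F)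

/-- the component -/
def component (d : X) : Set X := comp {y | IsConj d y} d

theorem component_conj {a : X} (ha : a ∈ component d) : IsConj d a := comp_subset (U := {y | IsConj d y}) (IsConj.refl d) ha

include H B in
theorem exists_space_comp :
    ∃ S : Space (component d) E, ∀ a (ha : a ∈ component d), ∃ g : X, g * d * g⁻¹ = a ∧
      ∀ q, S.e a ha q = g * φ q * g⁻¹ := by
  haveI := Subgroup.normal_of_index_eq_two H.hidx
  have hφd : ∀ q, φ q ≠ d := fun q h => H.out (h ▸ (φ_mem H q).1)
  have hs1 : ∀ s ∈ E, φ s ≠ 1 := fun s hs h => ne_one B.hD.1 hs (H.inj (h.trans (map_one φ).symm))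
  choose g hg using fun a (ha : a ∈ component d) => isConj_iff.1 (component_conj ha)
  have hmov : ∀ (g : X) {u v : X}, Commute u v → Commute (g * u * g⁻¹) (g * v * g⁻¹) := fun g _ _ h =>
    (commute_conj_iff g _ _).2 h
  have hsq : ∀ a, IsConj d a → a * a = 1 := fun a h => by
    obtain ⟨g, rfl⟩ := isConj_iff.1 h
    rw [show g * d * g⁻¹ * (g * d * g⁻¹) = g * (d * d) * g⁻¹ by group, H.sq]; group
  refine ⟨{ inv := fun a ha => hsq a (component_conj ha)
            conj := ?_
            e := fun a ha => (MulAut.conj (g a ha)).toMonoidHom.comp φ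
            inj := fun a ha => fun q r h => H.inj ((MulAut.conj (g a ha)).injective h)
            comm := fun a ha q => ?_
            not_mem := fun a ha q h => ?_
            cent := fun a ha v hv => ?_
            perp_eq := ?_ }, fun a ha => ⟨g a ha, hg a ha, fun q => rfl⟩⟩
  · intro a ha b hb
    have hai : a⁻¹ = a := inv_eq_of_mul_eq_one_right (hsq a (component_conj ha))
    have hU : ∀ y ∈ {y | IsConj d y}, a * y * a⁻¹ ∈ {y | IsConj d y} := fun y hy =>
      IsConj.trans hy (isConj_iff.2 ⟨a, rfl⟩)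
    have hba : b ∈ comp {y | IsConj d y} a := by rw [comp_eq_of_mem ha]; exact hb
    have h := conj_comp a hU hba
    rw [hai, hsq a (component_conj ha), one_mul, comp_eq_of_mem ha] at h
    exact h
  · show Commute a (g a ha * φ q * (g a ha)⁻¹)
    have hka := hg a ha
    generalize g a ha = k at hka ⊢
    subst hka
    exact hmov _ (φ_mem H q).2
  · change g a ha * φ q * (g a ha)⁻¹ = a at h
    exact hφd q (mul_left_cancel (mul_right_cancel (h.trans (hg a ha).symm)))
  · show ∃ q, v = g a ha * φ q * (g a ha)⁻¹ ∨ v = a * (g a ha * φ q * (g a ha)⁻¹)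
    have hka := hg a ha
    generalize g a ha = k at hka ⊢
    subst hka
    have hv' : Commute d (k⁻¹ * v * k) := by
      have := hmov k⁻¹ hv
      simpa [mul_assoc] using this
    obtain ⟨q, hq⟩ := exists_coord H hv'
    refine ⟨q, ?_⟩
    rcases hq with h | h
    · exact Or.inl (by rw [← h]; group)
    · refine Or.inr ?_
      rw [show k * d * k⁻¹ * (k * φ q * k⁻¹) = k * (d * φ q) * k⁻¹ by group, ← h]
      group
  · intro a ha y
    show y ∈ perp (component d) a ↔ ∃ s ∈ E, y = a * (g a ha * φ s * (g a ha)⁻¹)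
    have hka := hg a ha
    generalize g a ha = kk at hka ⊢
    subst hka
    have e : ∀ s, kk * d * kk⁻¹ * (kk * φ s * kk⁻¹) = kk * (d * φ s) * kk⁻¹ := fun s => by group
    constructor
    · rintro ⟨hy, hne, hc⟩
      obtain ⟨k, rfl⟩ := isConj_iff.1 (component_conj hy)
      have hc' : Commute d (((kk)⁻¹ * k) * d * ((kk)⁻¹ * k)⁻¹) := by
        have := hmov (kk)⁻¹ hc
        simpa [mul_assoc] using this
      rcases H.down _ hc' with h | ⟨s, hs, h⟩
      · exfalso
        refine hne ?_
        rw [show k * d * k⁻¹ = kk * ((kk)⁻¹ * k * d * ((kk)⁻¹ * k)⁻¹) * (kk)⁻¹ by group, h]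
      · refine ⟨s, hs, ?_⟩
        rw [e, ← h]; group
    · rintro ⟨s, hs, rfl⟩
      have hconj : IsConj d (kk * d * kk⁻¹ * (kk * φ s * (kk)⁻¹)) := by
        rw [e]; exact IsConj.trans (H.up s hs) (isConj_iff.2 ⟨kk, rfl⟩)
      have hcomm : Commute (kk * d * kk⁻¹) (kk * d * kk⁻¹ * (kk * φ s * (kk)⁻¹)) := by
        refine (Commute.refl _).mul_right ?_
        exact hmov _ (φ_mem H s).2
      refine ⟨comp_step ha (component_conj ha) hconj hcomm, fun h => ?_, hcomm⟩
      have h' : kk * φ s * (kk)⁻¹ = 1 := by simpa using h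
      exact hs1 s hs (by simpa using h')

/-- a space inside the subgroup it generates -/
def Space.restrict {G : Type u} [Group G] {D : Set G} (S : Space D E) (hE : Cfsg.IsThreeTranspositionGroup E) :
    Space ((↑) ⁻¹' D : Set ↥(Subgroup.closure D)) E where
  inv a ha := Subtype.ext (S.inv (a : G) ha)
  conj a ha b hb := S.conj (a : G) ha (b : G) hb
  e a ha := (S.e (a : G) ha).codRestrict (Subgroup.closure D) fun q => S.e_mem ha hE q
  inj a ha q r h := S.inj (a : G) ha (congrArg Subtype.val h)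
  comm a ha q := Subtype.ext (S.comm (a : G) ha q)
  not_mem a ha q h := S.not_mem (a : G) ha q (congrArg Subtype.val h)
  cent a ha g hg := by
    obtain ⟨q, h | h⟩ := S.cent (a : G) ha (g : G) (hg.map (Subgroup.subtype _))
    · exact ⟨q, Or.inl (Subtype.ext h)⟩
    · exact ⟨q, Or.inr (Subtype.ext h)⟩
  perp_eq a ha y := by
    have h := S.perp_eq (a : G) ha (y : G)
    constructor
    · rintro ⟨hy, hne, hc⟩
      obtain ⟨s, hs, e⟩ := h.1 ⟨hy, fun e => hne (Subtype.ext e), hc.map (Subgroup.subtype _)⟩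
      exact ⟨s, hs, Subtype.ext e⟩
    · rintro ⟨s, hs, e⟩
      obtain ⟨hy, hne, hc⟩ := h.2 ⟨s, hs, congrArg Subtype.val e⟩
      exact ⟨hy, fun e => hne (congrArg Subtype.val e), Subtype.ext hc⟩

theorem conn_restrict {G : Type u} [Group G] {U : Set G} {c : G} :
    ∀ a ∈ ((↑) ⁻¹' comp U c : Set ↥(Subgroup.closure (comp U c))), ∀ b ∈ ((↑) ⁻¹' comp U c : Set ↥(Subgroup.closure (comp U c))),
      b ∈ comp ((↑) ⁻¹' comp U c : Set ↥(Subgroup.closure (comp U c))) a := by
  intro a ha b hb
  have key : ∀ y, y ∈ comp U c → ∃ hy : y ∈ comp U c,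
      (⟨y, Subgroup.subset_closure hy⟩ : ↥(Subgroup.closure (comp U c))) ∈
        comp ((↑) ⁻¹' comp U c) ⟨c, Subgroup.subset_closure (mem_comp_self U c)⟩ := by
    intro y hy
    induction hy with
    | refl => exact ⟨mem_comp_self U c, mem_comp_self _ _⟩
    | @tail p q hp hstep ih =>
      obtain ⟨hp', ih⟩ := ih
      have hq : q ∈ comp U c := Relation.ReflTransGen.tail hp hstep
      exact ⟨hq, comp_step ih hp' hq (Subtype.ext hstep.2.2.2)⟩
  obtain ⟨ha', h1⟩ := key a ha
  obtain ⟨hb', h2⟩ := key b hb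
  rw [← comp_eq_of_mem h1] at h2
  exact h2

include H B in
/-- recognition hypotheses for the component -/
theorem exists_recog (hidx₂ : (MulAut.conj (G := Q₂)).range.index = 2) {G' : Type v} [Group G'] [Finite G']
    {D' : Set G'} (X' : Space D' E) (M : ModelFacts X') (O : OmegaFacts X')
    (hcount : ∀ (a' : G') (ha' : a' ∈ D') (q : Q), IsProd E 3 q → 4 * (3 * 2 ^ 13 * 3265920) ≤
      {y | y ∈ D' ∧ Commute (X'.e a' ha' q) y}.ncard * (2 * Nat.card ↥(Subgroup.centralizer ({q} : Set Q)))) :
    ∃ S : Space ((↑) ⁻¹' component d : Set ↥(Subgroup.closure (component d))) E,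
      Recog (Q₂ := Q₂) S X' ∧ Subgroup.centralizer ({d} : Set X) ≤ Subgroup.closure (component d) := by
  obtain ⟨S, hS⟩ := exists_space_comp H B
  refine ⟨S.restrict B.hD, ⟨hidx₂, M, O, Subgroup.closure_preimage_eq_top _, conn_restrict,
    ⟨⟨d, Subgroup.subset_closure (mem_comp_self _ _)⟩, mem_comp_self _ _⟩, fun a ha a' ha' q hq => ?_⟩, ?_⟩
  · have hc : 0 < 2 * Nat.card ↥(Subgroup.centralizer ({q} : Set Q)) := by
      have := Nat.card_pos (α := ↥(Subgroup.centralizer ({q} : Set Q))); omega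
    refine Nat.le_of_mul_le_mul_right ?_ hc
    refine le_trans (Nat.mul_le_mul_right _ ?_) ((count_le H B hq).trans (hcount a' ha' q hq))
    obtain ⟨g, hg, hge⟩ := hS (a : X) ha
    refine Set.ncard_le_ncard_of_injOn (fun y => g⁻¹ * (y : X) * g) ?_
      (fun u _ v _ h => Subtype.ext (mul_left_cancel (mul_right_cancel h))) (Set.toFinite _)
    rintro y ⟨hy, hc⟩
    refine ⟨IsConj.trans (component_conj hy) (isConj_iff.2 ⟨g⁻¹, by rw [inv_inv]⟩), ?_⟩
    have h2 := (commute_conj_iff g⁻¹ _ _).2 (hc.map (Subgroup.subtype _))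
    have he : ((Subgroup.closure (component d)).subtype ((S.restrict B.hD).e a ha q)) = g * φ q * g⁻¹ := hge q
    rw [he] at h2
    simpa [mul_assoc] using h2
  · intro v hv
    obtain ⟨q, h | h⟩ := S.cent d (mem_comp_self _ _) v (Subgroup.mem_centralizer_singleton_iff.1 hv).symm
    · rw [h]; exact S.e_mem _ B.hD q
    · rw [h]; exact mul_mem (Subgroup.subset_closure (mem_comp_self _ _)) (S.e_mem _ B.hD q)

end Cfsg.Agent.Lib.FischerTop83
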