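import Mathlib
import Cfsg.Agent.Lib.FischerTop83.Model
import Cfsg.Agent.Lib.FischerUniq91.Main
import Cfsg.Agent.Lib.FischerAut6.Final
import Cfsg.Agent.S0280

/-!
The order of the centraliser of a product of four, and the outer automorphisms at the bottom.
-/

set_option autoImplicit false
set_option linter.style.haveILetI false
set_option linter.unusedSectionVars false

namespace Cfsg.Agent.Lib.FischerTop83

open Cfsg.Agent.Lib.FischerMTypes.Basic Cfsg.Agent.Lib.FischerMTypes.Step Cfsg.Agent.Lib.FischerMTypes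
open Cfsg.Agent.Lib.FischerMTypes.TraceCounts (Sys)
open Cfsg.Agent.Lib.FischerMTypes32 (Data24)
open Cfsg.Agent.Lib.Fi22Mult
open Cfsg.Spor.Fi22 (edges)

universe u

set_option maxRecDepth 20000 in
/-- a group of type M(22) is the presented one -/
theorem iso_of_sys {Q₂ : Type u} [Group Q₂] [Finite Q₂] {E₂ : Set Q₂} {F : Type} [Field F] [Fintype F]
    (S : Sys E₂ F) : Nonempty (Cfsg.Spor.Fi22 ≃* Q₂) := by
  obtain ⟨N, h0, h1, h2⟩ := FischerUniq91.Rels.exists_nine S
  have hr : ∀ r ∈ Cfsg.Spor.coxRelators edges ∪ {r | r ∈ Cfsg.Spor.Fi22.extra},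
      FreeGroup.lift N.t r = 1 := by
    rintro r (⟨x, -, y, -, rfl⟩ | hr)
    · rw [map_pow, map_mul, FreeGroup.lift_apply_of, FreeGroup.lift_apply_of]
      exact N.cox S.hD x y
    · rw [Set.mem_ofPred_eq, extra_eq] at hr
      simp only [List.mem_cons, List.not_mem_nil, or_false] at hr
      rcases hr with rfl | rfl | rfl <;> rw [lift_word]
      exacts [h0, h1, h2]
  let φ : Cfsg.Spor.Fi22 →* Q₂ := PresentedGroup.toGroup hr
  have hφ : ∀ x, φ (gen₂₂ x) = N.t x := fun x => PresentedGroup.toGroup.of hr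
  obtain ⟨hsimple, hcard⟩ := Cfsg.Agent.S1696.result
  haveI := hsimple
  have hinj : Function.Injective φ := by
    rw [← MonoidHom.ker_eq_bot_iff]
    rcases (MonoidHom.normal_ker φ).eq_bot_or_eq_top with h | h
    · exact h
    · exfalso
      refine ne_one S.hD.1 (N.mem .a) ?_
      rw [← hφ, ← MonoidHom.mem_ker, h]
      trivial
  exact ⟨MulEquiv.ofBijective φ ((Nat.bijective_iff_injective_and_card φ).2
    ⟨hinj, by rw [hcard, OrderWidth.card_group S]; norm_num⟩)⟩

theorem index_two_of_sys {Q₂ : Type} [Group Q₂] [Finite Q₂] {E₂ : Set Q₂} {F : Type} [Field F] [Fintype F]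
    (S : Sys E₂ F) : (MulAut.conj (G := Q₂)).range.index = 2 := by
  obtain ⟨e⟩ := iso_of_sys S
  exact FischerAut6.index_range_fiTwentyTwo e.symm

theorem card_Q₂ {Q₂ : Type u} [Group Q₂] [Finite Q₂] {E₂ : Set Q₂} {F : Type} [Field F] [Fintype F]
    (S : Sys E₂ F) : 11 ∣ Nat.card Q₂ := by
  rw [OrderWidth.card_group S]; norm_num

theorem shape_card {C : Type*} [Group C] [Finite C] {Q N M : Subgroup C} [N.Normal]
    (hcard : Nat.card Q = 2 ^ 13) (hN : Nat.card N = 3 * Nat.card Q) (hNM : N ≤ M) {F : Type}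
    [Field F] [Fintype F] (hF : Fintype.card F = 9) (e : M ⧸ N.subgroupOf M ≃* Cfsg.PSU 4 F 3)
    (hM : M.index = 2) : Nat.card C = 2 * (3 * 2 ^ 13 * 3265920) := by
  classical
  have hp : Nat.card (Cfsg.PSU 4 F 3) = 3265920 := by
    have h := Cfsg.Agent.S0280.result (F := F) (q := 3) (by rw [hF]; norm_num) 4 (by omega)
    norm_num [Finset.prod_range_succ, Nat.even_iff] at h
    rw [Nat.card_eq_fintype_card]
    omega
  rw [← M.card_mul_index, hM, Subgroup.card_eq_card_quotient_mul_card_subgroup (N.subgroupOf M),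
    Nat.card_congr e.toEquiv, hp, Nat.card_congr (Subgroup.subgroupOfEquivOfLe hNM).toEquiv, hN, hcard]
  ring

theorem four_card_of_data {G : Type u} [Group G] [Finite G] {D : Set G} {Q : Type u} [Group Q] [Finite Q]
    {E : Set Q} {Q₂ : Type u} [Group Q₂] [Finite Q₂] {E₂ : Set Q₂} {F : Type} [Field F] [Fintype F]
    (K : Data24 D E E₂ F) {x : G} (hx : IsProd D 4 x) :
    Nat.card ↥(commutator G ⊓ Subgroup.centralizer ({x} : Set G)) = 2 * (3 * 2 ^ 13 * 3265920) := by
  classical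
  letI := Fintype.ofFinite G
  obtain ⟨A⟩ := Lib.FischerQuad75.exists_lab (K := K) hx
  obtain ⟨Q', iQ'', -, -, hQc, N, M, iN, iM, -, hNM, hN, ⟨K', iK, iK', hK', ⟨e⟩⟩, hMi⟩ := A.shape hx
  exact shape_card hQc hN hNM hK' e hMi

end Cfsg.Agent.Lib.FischerTop83
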