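import Mathlib
import Cfsg.Agent.Lib.FischerExist27.Transport

/-!
Type M(24) is invariant under isomorphisms.
-/

set_option autoImplicit false

namespace Cfsg.Agent.Lib.FischerTop83

open Cfsg.Agent.Lib.FischerExist27 (closure_quotient_iso typeM23_of_equiv)

theorem typeM24_of_equiv {G H : Type*} [Group G] [Group H] (e : G ≃* H) {D : Set G} {E : Set H}
    (hE : E = e '' D) (h : Cfsg.IsOfTypeM24 G D) : Cfsg.IsOfTypeM24 H E := by
  subst hE
  obtain ⟨hz, d, hd, c, hc, hdc, h23, N, iN, ⟨i₁⟩, ⟨i₂⟩⟩ := h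
  have hcomm : ∀ x y : G, Commute (e x) (e y) ↔ Commute x y := fun x y => by
    rw [Commute, SemiconjBy, ← map_mul, ← map_mul, e.injective.eq_iff]
    exact Iff.rfl
  have hset : ∀ x : G, {y : H | y ∈ e '' D ∧ y ≠ e x ∧ Commute (e x) y} =
      e '' {y : G | y ∈ D ∧ y ≠ x ∧ Commute x y} := fun x => by
    ext y
    constructor
    · rintro ⟨⟨y, hy, rfl⟩, hne, hcm⟩
      exact ⟨y, ⟨hy, fun he => hne (he ▸ rfl), (hcomm x y).1 hcm⟩, rfl⟩
    · rintro ⟨y, ⟨hy, hne, hcm⟩, rfl⟩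
      exact ⟨⟨y, hy, rfl⟩, fun he => hne (e.injective he), (hcomm x y).2 hcm⟩
  set T := {y : G | y ∈ D ∧ y ≠ d ∧ Commute d y} with hT
  set T' := {y : H | y ∈ e '' D ∧ y ≠ e d ∧ Commute (e d) y} with hT'
  have hT'eq : T' = e '' T := hset d
  have hsub : (Subgroup.closure T).map e.toMonoidHom = Subgroup.closure T' := by
    rw [MonoidHom.map_closure, hT'eq]; rfl
  let f : ↥(Subgroup.closure T) ≃* ↥(Subgroup.closure T') :=
    (e.subgroupMap (Subgroup.closure T)).trans (MulEquiv.subgroupCongr hsub)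
  have hfc : (Subgroup.center ↥(Subgroup.closure T)).map f.toMonoidHom =
      Subgroup.center ↥(Subgroup.closure T') := by
    refine le_antisymm ?_ fun y hy => ⟨f.symm y, ?_, f.apply_symm_apply y⟩
    · rintro _ ⟨x, hx, rfl⟩
      exact Subgroup.mem_center_iff.2 fun g => by
        obtain ⟨g, rfl⟩ := f.surjective g
        show f g * f x = f x * f g
        rw [← map_mul, ← map_mul, Subgroup.mem_center_iff.1 hx g]
    · exact Subgroup.mem_center_iff.2 fun g => f.injective (by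
        rw [map_mul, map_mul, f.apply_symm_apply, Subgroup.mem_center_iff.1 hy (f g)])
  let q := QuotientGroup.congr _ _ f hfc
  have h23' : Cfsg.IsOfTypeM23 (↥(Subgroup.closure T') ⧸ Subgroup.center ↥(Subgroup.closure T'))
      ((QuotientGroup.mk : ↥(Subgroup.closure T') → _) '' {x : ↥(Subgroup.closure T') | (x : H) ∈ T'}) := by
    refine typeM23_of_equiv q ?_ h23
    ext y
    constructor
    · rintro ⟨x, hx, rfl⟩
      obtain ⟨x, rfl⟩ := f.surjective x
      have hx' : (x : G) ∈ T := by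
        have hh : e (x : G) ∈ e '' T := by rw [← hT'eq]; exact hx
        obtain ⟨z, hz, hze⟩ := hh
        rwa [← e.injective hze]
      exact ⟨QuotientGroup.mk x, ⟨x, hx', rfl⟩, rfl⟩
    · rintro ⟨_, ⟨x, hx, rfl⟩, rfl⟩
      refine ⟨f x, ?_, rfl⟩
      show e (x : G) ∈ T'
      rw [hT'eq]
      exact ⟨_, hx, rfl⟩
  have hset₂ : ({y : H | y ∈ e '' D ∧ y ≠ e d ∧ Commute (e d) y} ∩
      {y : H | y ∈ e '' D ∧ y ≠ e c ∧ Commute (e c) y}) =
      e '' ({y : G | y ∈ D ∧ y ≠ d ∧ Commute d y} ∩ {y : G | y ∈ D ∧ y ≠ c ∧ Commute c y}) := by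
    rw [hset, hset, Set.image_inter e.injective]
  obtain ⟨j₂⟩ := closure_quotient_iso e _ _ hset₂
  have hN' : (N.map j₂.symm.toMonoidHom).Normal := iN.map _ j₂.symm.surjective
  refine ⟨?_, e d, ⟨d, hd, rfl⟩, e c, ⟨c, hc, rfl⟩, fun h => hdc ((hcomm d c).1 h), h23',
    N.map j₂.symm.toMonoidHom, hN', ⟨(j₂.symm.subgroupMap N).symm.trans i₁⟩,
    ⟨(@QuotientGroup.congr _ _ _ _ N (N.map j₂.symm.toMonoidHom) iN hN' j₂.symm rfl).symm.trans i₂⟩⟩
  rw [eq_bot_iff]
  intro y hy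
  obtain ⟨x, rfl⟩ := e.surjective y
  have : x ∈ Subgroup.center G := Subgroup.mem_center_iff.2 fun g => e.injective (by
    rw [map_mul, map_mul, Subgroup.mem_center_iff.1 hy (e g)])
  rw [hz, Subgroup.mem_bot] at this
  simp [this]

/-- a class of 3-transpositions pushed along an isomorphism -/
theorem class_of_equiv {G H : Type*} [Group G] [Group H] (e : G ≃* H) {D : Set G}
    (h : Cfsg.IsThreeTranspositionClass D) : Cfsg.IsThreeTranspositionClass (e '' D) := by
  obtain ⟨⟨h1, h2⟩, ⟨d, hd, hD⟩, hgen⟩ := h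
  refine ⟨⟨?_, ?_⟩, ⟨e d, ⟨d, hd, rfl⟩, ?_⟩, ?_⟩
  · rintro _ ⟨x, hx, rfl⟩
    rw [MulEquiv.orderOf_eq]
    exact h1 x hx
  · rintro _ ⟨x, hx, rfl⟩ _ ⟨y, hy, rfl⟩
    rw [← map_mul, ← map_pow, ← map_pow]
    rcases h2 x hx y hy with h | h
    · exact Or.inl (by rw [h, map_one])
    · exact Or.inr (by rw [h, map_one])
  · ext y
    constructor
    · rintro ⟨x, hx, rfl⟩
      rw [hD] at hx
      exact e.toMonoidHom.map_isConj hx
    · intro hy
      refine ⟨e.symm y, ?_, e.apply_symm_apply y⟩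
      rw [hD]
      have := e.symm.toMonoidHom.map_isConj hy
      show IsConj d (e.symm y)
      have h2 : e.symm (e d) = d := e.symm_apply_apply d
      simpa only [MulEquiv.coe_toMonoidHom, h2] using this
  · rw [show (e : G → H) '' D = e.toMonoidHom '' D from rfl, ← MonoidHom.map_closure, hgen,
      Subgroup.map_top_of_surjective _ e.surjective]

end Cfsg.Agent.Lib.FischerTop83
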