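import Mathlib
import Cfsg.Prelude.Def_SporadicB
import Cfsg.Agent.Lib.FischerTop83.Transport
import Cfsg.Agent.Lib.Involutions.StronglyEmbedded
import Cfsg.Agent.Lib.FischerMTypes.InvolutionsM24
import Cfsg.Agent.Lib.FischerMTypes.ParityM24
import Cfsg.Agent.Lib.FischerMTypes.IndexTwoLayer
import Cfsg.Agent.Lib.FischerAut6.Final
import Cfsg.Agent.Lib.FischerUniq91.Main
import Cfsg.Agent.Lib.FischerTop83.Model4
import Cfsg.Agent.Lib.FischerMTypes.M24Data
import Cfsg.Agent.S1696

/-!
The top layer of S5404: a subgroup of type M(24) containing the centralizer of an outer involution is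
the whole group, by strong embedding of its derived subgroup.
-/

set_option autoImplicit false
set_option linter.style.haveILetI false
set_option linter.unusedSectionVars false

namespace Cfsg.Agent.Lib.FischerTop83

open Cfsg Cfsg.Agent.Lib.FischerMTypes Cfsg.Agent.Lib.FischerMTypes.Basic
  Cfsg.Agent.Lib.FischerMTypes.Step

theorem eleven_dvd : 11 ∣ Nat.card (MulAut Cfsg.Spor.Fi22) := by
  obtain ⟨hs, hc⟩ := Cfsg.Agent.S1696.result
  haveI : Finite Cfsg.Spor.Fi22 := Nat.finite_of_card_ne_zero (by rw [hc]; norm_num)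
  haveI := hs
  have hinj : Function.Injective (MulAut.conj (G := Cfsg.Spor.Fi22)) := by
    rw [← MonoidHom.ker_eq_bot_iff, eq_bot_iff]
    intro g hg
    have hcen : g ∈ Subgroup.center Cfsg.Spor.Fi22 := Subgroup.mem_center_iff.2 fun x => by
      have := DFunLike.congr_fun (MonoidHom.mem_ker.1 hg) x
      simp only [MulAut.conj_apply, MulAut.one_apply] at this
      exact (mul_inv_eq_iff_eq_mul.1 this).symm
    rcases (inferInstance : (Subgroup.center Cfsg.Spor.Fi22).Normal).eq_bot_or_eq_top with h | h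
    · rw [h] at hcen; exact hcen
    · letI : CommGroup Cfsg.Spor.Fi22 :=
        { (inferInstance : Group Cfsg.Spor.Fi22) with
          mul_comm := fun a b => (Subgroup.mem_center_iff.1 (h ▸ Subgroup.mem_top a) b).symm }
      haveI : IsCyclic Cfsg.Spor.Fi22 := IsSimpleGroup.isCyclic
      have := IsSimpleGroup.prime_card (α := Cfsg.Spor.Fi22)
      rw [hc] at this
      norm_num at this
  exact ((show 11 ∣ Nat.card Cfsg.Spor.Fi22 by rw [hc]; norm_num).trans
    (Subgroup.card_dvd_of_injective _ hinj))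

universe u

section

variable {X : Type u} [Group X] [Finite X] {G₀ : Subgroup X} {K : Subgroup X} {E : Set ↥K}

theorem group_of_class (h : Cfsg.IsThreeTranspositionClass E) : Cfsg.IsThreeTranspositionGroup E := by
  obtain ⟨h1, ⟨e, -, hE⟩, h3⟩ := h
  refine ⟨h1, fun g x hx => ?_, h3⟩
  rw [hE] at hx ⊢
  exact IsConj.trans hx (isConj_iff.2 ⟨g, rfl⟩)

theorem mem_comm_iff (hidx : G₀.index = 2) (hD : Cfsg.IsThreeTranspositionGroup E)
    (hprim : Cfsg.IsPrimitiveUnderConj E) (hd : ∃ d ∈ K, d ∉ G₀) {a : ↥K} (ha : a ∈ E) (g : ↥K) :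
    g ∈ commutator ↥K ↔ (g : X) ∈ G₀ := by
  have hle : commutator ↥K ≤ G₀.subgroupOf K := by
    rw [commutator_def, Subgroup.commutator_le]
    intro x _ y _
    rw [Subgroup.mem_subgroupOf, commutatorElement_def]
    simp only [Subgroup.coe_mul, Subgroup.coe_inv]
    rw [Subgroup.mul_mem_iff_of_index_two hidx, Subgroup.mul_mem_iff_of_index_two hidx,
      Subgroup.mul_mem_iff_of_index_two hidx, inv_mem_iff, inv_mem_iff]
    tauto
  refine ⟨fun h => Subgroup.mem_subgroupOf.1 (hle h), fun h => ?_⟩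
  haveI : (commutator ↥K).Normal := inferInstance
  have hor := IndexTwoLayer.mem_or (M := commutator ↥K) hprim hD
    (fun x hx y hy => IndexTwoLayer.mul_mem_commutator hD hprim hx hy) ha
  refine (hor g).resolve_right fun hga => ?_
  obtain ⟨d, hdK, hd0⟩ := hd
  have ha0 : (a : X) ∈ G₀ := by
    have := Subgroup.mem_subgroupOf.1 (hle hga)
    simp only [Subgroup.coe_mul] at this
    exact (Subgroup.mul_mem_cancel_left _ h).1 this
  refine hd0 ?_
  rcases hor ⟨d, hdK⟩ with h' | h'
  · exact Subgroup.mem_subgroupOf.1 (hle h')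
  · have := Subgroup.mem_subgroupOf.1 (hle h')
    simp only [Subgroup.coe_mul] at this
    exact (Subgroup.mul_mem_cancel_right _ ha0).1 this

/-- centralizer in the derived subgroup, seen in the index two subgroup -/
theorem cent_dvd (hiff : ∀ g : ↥K, g ∈ commutator ↥K → (g : X) ∈ G₀) (x : ↥K) (x' : ↥G₀)
    (he : (x : X) = (x' : X)) :
    Nat.card ↥(commutator ↥K ⊓ Subgroup.centralizer ({x} : Set ↥K)) ∣
        Nat.card ↥(Subgroup.centralizer ({x'} : Set ↥G₀)) ∧
      (Nat.card ↥(commutator ↥K ⊓ Subgroup.centralizer ({x} : Set ↥K)) =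
        Nat.card ↥(Subgroup.centralizer ({x'} : Set ↥G₀)) → ∀ g : ↥G₀, Commute g x' → (g : X) ∈ K) := by
  let f : ↥(commutator ↥K ⊓ Subgroup.centralizer ({x} : Set ↥K)) →*
      ↥(Subgroup.centralizer ({x'} : Set ↥G₀)) :=
    MonoidHom.mk' (fun g => ⟨⟨((g : ↥K) : X), hiff _ g.2.1⟩, Subgroup.mem_centralizer_singleton_iff.2
      (Subtype.ext (by
        have := congrArg (Subtype.val : ↥K → X) (Subgroup.mem_centralizer_singleton_iff.1 g.2.2)
        simpa [he] using this))⟩) fun _ _ => rfl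
  have hf : Function.Injective f := fun g g' h => by
    apply Subtype.ext; apply Subtype.ext
    exact congrArg (fun v : ↥(Subgroup.centralizer ({x'} : Set ↥G₀)) => ((v : ↥G₀) : X)) h
  refine ⟨Subgroup.card_dvd_of_injective f hf, fun hc g hg => ?_⟩
  obtain ⟨k, hk⟩ := ((Nat.bijective_iff_injective_and_card f).2 ⟨hf, hc⟩).2
    ⟨g, Subgroup.mem_centralizer_singleton_iff.2 hg⟩
  have : ((k : ↥K) : X) = (g : X) :=
    congrArg (fun v : ↥(Subgroup.centralizer ({x'} : Set ↥G₀)) => ((v : ↥G₀) : X)) hk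
  exact this ▸ (k : ↥K).2

end

variable {G : Type u} [Group G] [Finite G] {D : Set G}

theorem pair_card (hD : Cfsg.IsThreeTranspositionGroup D) (hprim : Cfsg.IsPrimitiveUnderConj D)
    (h24 : Cfsg.IsOfTypeM24 G D) {x : G} (hx : IsProd D 2 x) :
    Nat.card ↥(commutator G ⊓ Subgroup.centralizer ({x} : Set G)) = 2 * Nat.card (MulAut Cfsg.Spor.Fi22) := by
  obtain ⟨l, hn, hlen, hd, hc, hp⟩ := hx
  match l, hlen with
  | [a, b], _ =>
    obtain rfl : a * b = x := by simpa using hp
    have hne : a ≠ b := by simpa using hn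
    have hab : Commute a b := hc a (by simp) b (by simp)
    set CL := commutator G ⊓ Subgroup.centralizer ({a * b} : Set G) with hCL
    haveI hnorm : ((Subgroup.zpowers (a * b)).subgroupOf CL).Normal := ⟨fun v hv g => by
      rw [Subgroup.mem_subgroupOf] at hv ⊢
      obtain ⟨k, hk⟩ := Subgroup.mem_zpowers_iff.1 hv
      have hg : Commute (g : G) (a * b) := Subgroup.mem_centralizer_singleton_iff.1 g.2.2
      simp only [Subgroup.coe_mul, Subgroup.coe_inv]
      rw [← hk, (hg.zpow_right k).eq, mul_inv_cancel_right]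
      exact Subgroup.zpow_mem_zpowers _ k⟩
    obtain ⟨-, -, hKle, -, hj, ⟨e⟩⟩ := Lib.FischerAut6.pair24_statement hD hprim h24
      (fun {Q} _ _ E hE hp h22 => by
        obtain ⟨e, -⟩ := Lib.FischerUniq91.Main.exists_iso hE hp h22
        exact ⟨e.symm⟩)
      (commutator G) rfl a b (hd a (by simp)) (hd b (by simp)) hne hab _ CL rfl hCL
    have hord : orderOf (a * b) = 2 := by
      refine orderOf_eq_prime ?_ fun h => hne ?_
      · rw [hab.mul_pow, sq, sq, mul_self hD.1 (hd a (by simp)), mul_self hD.1 (hd b (by simp)), one_mul]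
      · have h2 := mul_self hD.1 (hd b (by simp))
        calc a = a * b * b := by rw [mul_assoc, h2, mul_one]
          _ = b := by rw [h, one_mul]
    rw [Subgroup.card_eq_card_quotient_mul_card_subgroup ((Subgroup.zpowers (a * b)).subgroupOf CL),
      Nat.card_congr e.toEquiv, Nat.card_congr (Subgroup.subgroupOfEquivOfLe
        ((Subgroup.zpowers_le.2 (hKle hj)))).toEquiv, Nat.card_zpowers, hord, mul_comm]

theorem four_card (hD : Cfsg.IsThreeTranspositionGroup D) (hprim : Cfsg.IsPrimitiveUnderConj D)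
    (h24 : Cfsg.IsOfTypeM24 G D) {x : G} (hx : IsProd D 4 x) :
    Nat.card ↥(commutator G ⊓ Subgroup.centralizer ({x} : Set G)) = 2 * (3 * 2 ^ 13 * 3265920) := by
  classical
  obtain ⟨Q, iQ, iQ', E, Q₂, i₂, i₂', E₂, F, iF, iF', S22, S23, hM, ⟨S⟩⟩ :=
    M24Data.exists_step hD hprim h24
  exact four_card_of_data (⟨hD, hprim, h24, hM, S22, S23, S⟩ : Lib.FischerMTypes32.Data24 D E E₂ F) hx

/-- a subgroup of type M(24) with the centralizer of an outer involution is everything -/
theorem eq_top_of_recognition {X : Type u} [Group X] [Finite X] (G₀ : Subgroup X) (hidx : G₀.index = 2)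
    (z t : ↥G₀) (hz : orderOf z = 2) (ht : orderOf t = 2) (hzt : Commute t z) (hncj : ¬ IsConj z t)
    (hCz : Nat.card ↥(Subgroup.centralizer ({z} : Set ↥G₀)) = 2 * (3 * 2 ^ 13 * 3265920))
    (hCt : Nat.card ↥(Subgroup.centralizer ({t} : Set ↥G₀)) = 2 * Nat.card (MulAut Cfsg.Spor.Fi22))
    (K : Subgroup X) (E : Set ↥K) (hE : Cfsg.IsThreeTranspositionClass E)
    (hprim : Cfsg.IsPrimitiveUnderConj E) (h24 : Cfsg.IsOfTypeM24 ↥K E) (d : X) (hdK : d ∈ K)
    (hd0 : d ∉ G₀) (hdz : Commute d (z : X)) (hdC : Subgroup.centralizer ({d} : Set X) ≤ K) : K = ⊤ := by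
  classical
  have hD := group_of_class hE
  obtain ⟨Q, iQ, iQ', E', Q₂, i₂, i₂', E₂, F, iF, iF', S22, S23, hM, ⟨S⟩⟩ :=
    M24Data.exists_step hD hprim h24
  have P := M24Data.pinned S22 S23 hM h24 S
  obtain ⟨a, ha, -⟩ := hprim.2.1
  have hpar : ∀ e ∈ E, e ∉ commutator ↥K := fun e he => ParityM24.parity S22 S23 S hM P he
  have hiff := mem_comm_iff hidx hD hprim ⟨d, hdK, hd0⟩ ha
  obtain ⟨hcls, hcls', -⟩ := InvolutionsM24.four_classes S22 S23 S hM P
  -- involutions of the derived subgroup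
  have hsplit : ∀ x : ↥K, orderOf x = 2 → x ∈ commutator ↥K → IsProd E 2 x ∨ IsProd E 4 x := by
    intro x hx hxL
    obtain ⟨m, h1, h4, hm⟩ := hcls x hx
    interval_cases m
    · exfalso
      obtain ⟨l, -, hlen, hd, -, hp⟩ := hm
      match l, hlen with
      | [a], _ => exact hpar a (hd a (by simp)) (by rw [show a = x by simpa using hp]; exact hxL)
    · exact Or.inl hm
    · exfalso
      obtain ⟨l, -, hlen, hd, -, hp⟩ := hm
      match l, hlen with
      | [a, b, c], _ =>
        refine hpar c (hd c (by simp)) ?_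
        have hab := IndexTwoLayer.mul_mem_commutator hD hprim (hd a (by simp)) (hd b (by simp))
        have : a * b * c ∈ commutator ↥K := by
          rw [show a * b * c = x by simpa [mul_assoc] using hp]; exact hxL
        exact (Subgroup.mul_mem_cancel_left _ hab).1 this
    · exact Or.inr hm
  have hconj : ∀ (m : ℕ) (x y : ↥K), 1 ≤ m → m ≤ 4 → IsProd E m x → IsProd E m y →
      ∃ g ∈ commutator ↥K, g * x * g⁻¹ = y := by
    intro m x y h1 h4 hx hy
    obtain ⟨g, hg⟩ := isConj_iff.1 ((hcls' m h1 h4).2 x y hx hy)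
    obtain ⟨l, hn, hlen, hd, hc, hp⟩ := hx
    obtain ⟨b, hb⟩ := List.exists_mem_of_ne_nil l (List.ne_nil_of_length_pos (by omega))
    rcases IndexTwoLayer.mem_or (M := commutator ↥K) hprim hD
      (fun x hx y hy => IndexTwoLayer.mul_mem_commutator hD hprim hx hy) (hd b hb) g with h | h
    · exact ⟨g, h, hg⟩
    · refine ⟨g * b, h, ?_⟩
      have hbx : Commute b x := hp ▸ Commute.list_prod_right l b fun v hv => hc b hb v hv
      rw [← hg, mul_inv_rev, mul_assoc g b x, hbx.eq]
      simp [mul_assoc]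
  have toK : ∀ g : ↥G₀, (g : X) ∈ K → ∀ hg : (g : X) ∈ K, (⟨(g : X), hg⟩ : ↥K) ∈ commutator ↥K :=
    fun g _ hg => (hiff _).2 g.2
  -- the centralizer of z
  have hzK : (z : X) ∈ K := hdC (Subgroup.mem_centralizer_singleton_iff.2 hdz.symm)
  set zK : ↥K := ⟨(z : X), hzK⟩ with hzK_def
  have hordz : orderOf zK = 2 := by
    rw [← Subgroup.orderOf_coe]; exact (Subgroup.orderOf_coe z).trans hz
  have hz4 : IsProd E 4 zK := (hsplit zK hordz (toK z hzK hzK)).resolve_left fun h => by
    have h1 := (cent_dvd (G₀ := G₀) (fun g hg => (hiff g).1 hg) zK z rfl).1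
    rw [pair_card hD hprim h24 h, hCz] at h1
    have := (eleven_dvd.trans (dvd_mul_left _ 2)).trans h1
    norm_num at this
  have hCzK : ∀ g : ↥G₀, Commute g z → (g : X) ∈ K :=
    (cent_dvd (G₀ := G₀) (fun g hg => (hiff g).1 hg) zK z rfl).2
      ((four_card hD hprim h24 hz4).trans hCz.symm)
  -- the centralizer of t
  have htK : (t : X) ∈ K := hCzK t hzt
  set tK : ↥K := ⟨(t : X), htK⟩ with htK_def
  have hordt : orderOf tK = 2 := by
    rw [← Subgroup.orderOf_coe]; exact (Subgroup.orderOf_coe t).trans ht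
  have ht2 : IsProd E 2 tK := (hsplit tK hordt (toK t htK htK)).resolve_right fun h => by
    obtain ⟨g, hg, he⟩ := hconj 4 zK tK (by norm_num) le_rfl hz4 h
    exact hncj (isConj_iff.2 ⟨⟨(g : X), (hiff g).1 hg⟩, Subtype.ext (congrArg Subtype.val he :)⟩)
  have hCtK : ∀ g : ↥G₀, Commute g t → (g : X) ∈ K :=
    (cent_dvd (G₀ := G₀) (fun g hg => (hiff g).1 hg) tK t rfl).2
      ((pair_card hD hprim h24 ht2).trans hCt.symm)
  -- strong embedding
  set H := K.subgroupOf G₀ with hH
  have htop : H = ⊤ := by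
    by_contra hne
    have hrep : ∀ u ∈ H, orderOf u = 2 → ∃ h ∈ H, h * u * h⁻¹ = z ∨ h * u * h⁻¹ = t := by
      intro u hu hu2
      set uK : ↥K := ⟨(u : X), Subgroup.mem_subgroupOf.1 hu⟩ with huK
      have hordu : orderOf uK = 2 := by
        rw [← Subgroup.orderOf_coe]; exact (Subgroup.orderOf_coe u).trans hu2
      rcases hsplit uK hordu ((hiff uK).2 u.2) with h | h
      · obtain ⟨g, hg, he⟩ := hconj 2 uK tK (by norm_num) (by norm_num) h ht2
        exact ⟨⟨(g : X), (hiff g).1 hg⟩, Subgroup.mem_subgroupOf.2 g.2,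
          Or.inr (Subtype.ext (congrArg Subtype.val he :))⟩
      · obtain ⟨g, hg, he⟩ := hconj 4 uK zK (by norm_num) le_rfl h hz4
        exact ⟨⟨(g : X), (hiff g).1 hg⟩, Subgroup.mem_subgroupOf.2 g.2,
          Or.inl (Subtype.ext (congrArg Subtype.val he :))⟩
    have hzH : z ∈ H := Subgroup.mem_subgroupOf.2 hzK
    have hSE : Cfsg.IsStronglyEmbedded H := by
      refine Lib.Involutions.StronglyEmbedded.of_forall_conj hne ?_ fun u hu hu2 g hg => ?_
      · rw [even_iff_two_dvd]
        have : orderOf (⟨z, hzH⟩ : ↥H) ∣ Nat.card ↥H := orderOf_dvd_natCard _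
        rwa [← Subgroup.orderOf_coe, hz] at this
      obtain ⟨h, hh, he⟩ := hrep u hu hu2
      obtain ⟨k, hk, he'⟩ := hrep (g * u * g⁻¹) hg
        ((orderOf_injective (MulAut.conj g).toMonoidHom (MulEquiv.injective _) u).trans hu2)
      have key : k * g * h⁻¹ * (h * u * h⁻¹) * (k * g * h⁻¹)⁻¹ = k * (g * u * g⁻¹) * k⁻¹ := by group
      have hmem : k * g * h⁻¹ ∈ H := by
        rcases he with he | he <;> rcases he' with he' | he' <;> rw [he, he'] at key
        · exact Subgroup.mem_subgroupOf.2 (hCzK _ (mul_inv_eq_iff_eq_mul.1 key))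
        · exact absurd (isConj_iff.2 ⟨_, key⟩) hncj
        · exact absurd (isConj_iff.2 ⟨_, key⟩ : IsConj t z).symm hncj
        · exact Subgroup.mem_subgroupOf.2 (hCtK _ (mul_inv_eq_iff_eq_mul.1 key))
      have := H.mul_mem (H.mul_mem (H.inv_mem hk) hmem) hh
      simpa [mul_assoc] using this
    exact hncj (Lib.Involutions.StronglyEmbedded.isConj_involutions hSE hz ht)
  rw [eq_top_iff]
  intro x _
  have hG : ∀ g ∈ G₀, g ∈ K := fun g hg =>
    Subgroup.mem_subgroupOf.1 (show (⟨g, hg⟩ : ↥G₀) ∈ H from htop ▸ Subgroup.mem_top _)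
  by_cases hx : x ∈ G₀
  · exact hG x hx
  · have : x * d ∈ G₀ := (Subgroup.mul_mem_iff_of_index_two hidx).2 (iff_of_false hx hd0)
    exact (Subgroup.mul_mem_cancel_right _ hdK).1 (hG _ this)

/-- the conclusion of S5404 from a recognised subgroup -/
theorem type_of_recognition {X : Type u} [Group X] [Finite X] (G₀ : Subgroup X) (hidx : G₀.index = 2)
    (z t : ↥G₀) (hz : orderOf z = 2) (ht : orderOf t = 2) (hzt : Commute t z) (hncj : ¬ IsConj z t)
    (hCz : Nat.card ↥(Subgroup.centralizer ({z} : Set ↥G₀)) = 2 * (3 * 2 ^ 13 * 3265920))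
    (hCt : Nat.card ↥(Subgroup.centralizer ({t} : Set ↥G₀)) = 2 * Nat.card (MulAut Cfsg.Spor.Fi22))
    (K : Subgroup X) (E : Set ↥K) (hE : Cfsg.IsThreeTranspositionClass E)
    (hprim : Cfsg.IsPrimitiveUnderConj E) (h24 : Cfsg.IsOfTypeM24 ↥K E) (d : X) (hdK : d ∈ K)
    (hd0 : d ∉ G₀) (hdz : Commute d (z : X)) (hdC : Subgroup.centralizer ({d} : Set X) ≤ K) :
    ∃ E' : Set X, Cfsg.IsThreeTranspositionClass E' ∧ Cfsg.IsOfTypeM24 X E' := by
  obtain rfl := eq_top_of_recognition G₀ hidx z t hz ht hzt hncj hCz hCt K E hE hprim h24 d hdK hd0 hdz hdC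
  exact ⟨_, class_of_equiv Subgroup.topEquiv hE, typeM24_of_equiv Subgroup.topEquiv rfl h24⟩

end Cfsg.Agent.Lib.FischerTop83
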