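import Mathlib
import Cfsg.Agent.Lib.FischerTop83.Recog
import Cfsg.Agent.Lib.FischerExist27.Transport

/-!
A recognised space is of type M(24).
-/

set_option autoImplicit false
set_option linter.style.haveILetI false
set_option linter.unusedSectionVars false

namespace Cfsg.Agent.Lib.FischerTop83

open Cfsg.Agent.Lib.FischerMTypes.Basic Cfsg.Agent.Lib.FischerMTypes.Primitive
  Cfsg.Agent.Lib.FischerMTypes.Step Cfsg.Agent.Lib.FischerMTypes

universe u v

/-- the permutation induced by a member of the `i`-th set -/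
def otherSwap (i : Fin 3) : Equiv.Perm (Fin 3) := Equiv.swap (i + 1) (i + 2)

theorem otherSwap_eq : ∀ {i k l : Fin 3}, ¬ k = i → l ≠ i → l ≠ k → l = otherSwap i k := by decide

section three

variable {Q : Type v} [Group Q] (C : Fin 3 → Set Q) (hinj : Function.Injective C)
  (hmove : ∀ i j, ∀ s ∈ C i, (fun y => s * y * s⁻¹) '' C j = C (otherSwap i j))

include hinj hmove in
theorem three_sets (hCne : ∀ i, (C i).Nonempty) {P : Type} [Group P] (hPc : Subgroup.center P = ⊥)
    (hiso : Nonempty (↥(Subgroup.closure {g : Q | ∃ u ∈ C 0, ∃ v ∈ C 0, g = u * v}) ≃* P))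
    (hstab : ∀ h : Q, (∀ u ∈ C 0, h * u * h⁻¹ ∈ C 0) → ∀ p ∈ C 0,
      h ∈ Subgroup.closure {g : Q | ∃ u ∈ C 0, ∃ v ∈ C 0, g = u * v} ∨
      h * p ∈ Subgroup.closure {g : Q | ∃ u ∈ C 0, ∃ v ∈ C 0, g = u * v}) :
    Subgroup.center ↥(Subgroup.closure (⋃ i, C i)) = ⊥ ∧
      ∃ f : ↥(Subgroup.closure (⋃ i, C i)) →* Equiv.Perm (Fin 3),
        Function.Surjective f ∧ Nonempty (↥f.ker ≃* P) := by
  classical
  set Γ := Subgroup.closure (⋃ i, C i) with hΓ
  set H₀ := Subgroup.closure {g : Q | ∃ u ∈ C 0, ∃ v ∈ C 0, g = u * v} with hH₀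
  have hcomp : ∀ (g h : Q) (S : Set Q),
      (fun y => g * h * y * (g * h)⁻¹) '' S = (fun y => g * y * g⁻¹) '' ((fun y => h * y * h⁻¹) '' S) := by
    intro g h S
    rw [Set.image_image]
    refine Set.image_congr fun y _ => ?_
    group
  have hex : ∀ g ∈ Γ, ∃ σ : Equiv.Perm (Fin 3), ∀ j, (fun y => g * y * g⁻¹) '' C j = C (σ j) := by
    intro g hg
    induction hg using Subgroup.closure_induction with
    | mem s hs => obtain ⟨i, hi⟩ := Set.mem_iUnion.1 hs; exact ⟨otherSwap i, fun j => hmove i j s hi⟩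
    | one => exact ⟨1, fun j => by simp⟩
    | mul g h _ _ ihg ihh =>
      obtain ⟨σ, hσ⟩ := ihg
      obtain ⟨τ, hτ⟩ := ihh
      exact ⟨σ * τ, fun j => by rw [hcomp, hτ, hσ]; rfl⟩
    | inv g _ ih =>
      obtain ⟨σ, hσ⟩ := ih
      refine ⟨σ⁻¹, fun j => ?_⟩
      have h := hσ (σ⁻¹ j)
      rw [Equiv.Perm.coe_inv, Equiv.apply_symm_apply] at h
      rw [← h, ← hcomp, Equiv.Perm.coe_inv]
      simp
  choose σ hσ using fun g : ↥Γ => hex g g.2
  let f : ↥Γ →* Equiv.Perm (Fin 3) := MonoidHom.mk' σ fun g h => Equiv.ext fun j => hinj (by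
    rw [← hσ, Subgroup.coe_mul, hcomp, hσ, hσ]; rfl)
  have hf : ∀ (g : ↥Γ) (j : Fin 3), (fun y => (g : Q) * y * (g : Q)⁻¹) '' C j = C (f g j) := hσ
  have hfgen : ∀ i, ∀ s (hs : s ∈ C i), f ⟨s, Subgroup.subset_closure (Set.mem_iUnion.2 ⟨i, hs⟩)⟩ = otherSwap i :=
    fun i s hs => Equiv.ext fun j => hinj (by rw [← hf]; exact hmove i j s hs)
  have hsurj : Function.Surjective f := by
    intro π
    have key : ∀ π : Equiv.Perm (Fin 3), ∃ i j, π = otherSwap i ∨ π = otherSwap i * otherSwap j := by decide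
    obtain ⟨i, j, h⟩ := key π
    obtain ⟨s, hs⟩ := hCne i
    obtain ⟨t, ht⟩ := hCne j
    rcases h with rfl | rfl
    · exact ⟨_, hfgen i s hs⟩
    · exact ⟨⟨s, Subgroup.subset_closure (Set.mem_iUnion.2 ⟨i, hs⟩)⟩ *
        ⟨t, Subgroup.subset_closure (Set.mem_iUnion.2 ⟨j, ht⟩)⟩, by rw [map_mul, hfgen i s hs, hfgen j t ht]⟩
  have hswap : ∀ i, otherSwap i * otherSwap i = 1 ∧ otherSwap i ≠ 1 := by decide
  have hH₀Γ : H₀ ≤ Γ := (Subgroup.closure_le _).2 fun g hg => by
    obtain ⟨u, hu, v, hv, rfl⟩ := hg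
    exact mul_mem (Subgroup.subset_closure (Set.mem_iUnion.2 ⟨0, hu⟩))
      (Subgroup.subset_closure (Set.mem_iUnion.2 ⟨0, hv⟩))
  have hH₀ker : ∀ g : ↥Γ, (g : Q) ∈ H₀ → f g = 1 := by
    have hle : H₀ ≤ f.ker.map Γ.subtype := (Subgroup.closure_le _).2 fun g hg => by
      obtain ⟨u, hu, v, hv, rfl⟩ := hg
      exact ⟨⟨u, Subgroup.subset_closure (Set.mem_iUnion.2 ⟨0, hu⟩)⟩ *
        ⟨v, Subgroup.subset_closure (Set.mem_iUnion.2 ⟨0, hv⟩)⟩,
        by rw [SetLike.mem_coe, MonoidHom.mem_ker, map_mul, hfgen 0 u hu, hfgen 0 v hv]; exact (hswap 0).1, rfl⟩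
    intro g hg
    obtain ⟨g', hg', he⟩ := hle hg
    rw [show g = g' from Subtype.ext he.symm]
    exact hg'
  have hker : ∀ g : ↥Γ, f g = 1 → (g : Q) ∈ H₀ := by
    intro g hg
    obtain ⟨p, hp⟩ := hCne 0
    refine (hstab g (fun u hu => ?_) p hp).resolve_right fun h => ?_
    · have := hf g 0
      rw [hg] at this
      exact this ▸ Set.mem_image_of_mem _ hu
    · have h2 := hH₀ker (g * ⟨p, Subgroup.subset_closure (Set.mem_iUnion.2 ⟨0, hp⟩)⟩) h
      rw [map_mul, hg, one_mul, hfgen 0 p hp] at h2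
      exact (hswap 0).2 h2
  let e₀ : ↥f.ker ≃* ↥H₀ :=
    { toFun := fun g => ⟨((g : ↥Γ) : Q), hker _ g.2⟩
      invFun := fun h => ⟨⟨(h : Q), hH₀Γ h.2⟩, hH₀ker _ h.2⟩
      left_inv := fun g => rfl
      right_inv := fun h => rfl
      map_mul' := fun g h => rfl }
  obtain ⟨e⟩ := hiso
  refine ⟨?_, f, hsurj, ⟨e₀.trans e⟩⟩
  rw [eq_bot_iff]
  intro z hz
  have hz1 : f z = 1 := by
    have key : ∀ π : Equiv.Perm (Fin 3), (∀ τ, τ * π = π * τ) → π = 1 := by decide
    refine key _ fun τ => ?_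
    obtain ⟨g, rfl⟩ := hsurj τ
    rw [← map_mul, ← map_mul, Subgroup.mem_center_iff.1 hz g]
  have hcen : (e₀.trans e) ⟨z, hz1⟩ ∈ Subgroup.center P := Subgroup.mem_center_iff.2 fun w => by
    obtain ⟨g, rfl⟩ := (e₀.trans e).surjective w
    rw [← map_mul, ← map_mul]
    exact congrArg _ (Subtype.ext (Subgroup.mem_center_iff.1 hz (g : ↥Γ)))
  rw [hPc, Subgroup.mem_bot, MulEquiv.map_eq_one_iff] at hcen
  exact Subgroup.mem_bot.2 (congrArg Subtype.val hcen)

end three

variable {G : Type u} [Group G] [Finite G] {D : Set G} {Q : Type v} [Group Q] [Finite Q] {E : Set Q}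
  {Q₂ : Type v} [Group Q₂] [Finite Q₂] {E₂ : Set Q₂} {F : Type} [Field F] [Fintype F]
  {G' : Type v} [Group G'] [Finite G'] {D' : Set G'}
  {X : Space D E} {X' : Space D' E} (B : Base23 E E₂ F) (R : Recog (Q₂ := Q₂) X X')

include B R in
theorem type_M24 : Cfsg.IsOfTypeM24 G D := by
  obtain ⟨a', ha', x', c', hx', hax', hc', hiso, hstab⟩ := R.O
  obtain ⟨a, ha⟩ := R.ne
  set c := a * X.e a ha (X'.co ha' c') with hcdef
  have hc : c ∈ perp D a := iota_mem X' X ha' ha hc'.1
  have hback : a' * X'.e a' ha' (X.co ha c) = c' := iota_inv X' X ha' ha hc'.1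
  obtain ⟨x, hm, hax⟩ := exists_match X X' ha ha' B R.hidx hc (k' := x')
    (by rw [hback]; exact (X'.mem_perp_of_common ha' hx' hc').2) hax'
  have hcx : c ∈ perp₂ D a x :=
    ⟨hc, hc.1, fun e => hax (e ▸ hc.2.2), hm.1.2.2.symm⟩
  have hxD : x ∈ D := hm.1.1
  set T := perp₂ D a x with hT
  have hTa : T ⊆ perp D a := fun y hy => hy.1
  -- the distinguished fibre
  have hF₀ : X.co ha '' comp T c = X'.co ha' '' comp (perp₂ D' a' x') c' := by
    have himg := comp_image X X' ha ha' B R.hidx hcx hax hax' hm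
    rw [hback] at himg
    rw [← himg, Set.image_image]
    exact Set.image_congr fun y hy => (iota_co X X' ha ha' (comp_subset hcx hy).1).symm
  -- three components
  have h3240 : T.ncard = 3240 := trace_card B R ha hxD hax ⟨c, hcx⟩
  have h1080 : ∀ u ∈ T, (comp T u).ncard = 1080 := fun u hu =>
    comp_ncard X X' B R.hidx R.M ha' ha hxD hax hu
  obtain ⟨p, hp, hpc⟩ : ∃ p ∈ T, p ∉ comp T c := by
    by_contra h
    push Not at h
    have := Set.ncard_le_ncard h (Set.toFinite _)
    rw [h3240, h1080 c hcx] at this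
    omega
  have hdisj : ∀ {u v : G}, v ∉ comp T u → Disjoint (comp T u) (comp T v) := fun {u v} huv =>
    Set.disjoint_left.2 fun y hy hy' => huv (by
      rw [← comp_eq_of_mem hy, comp_eq_of_mem hy']; exact mem_comp_self _ _)
  have hcube : ∀ {y : G}, y ∈ T → y * y * y = y := fun hy => by rw [X.inv _ hy.1.1, one_mul]
  have hinvol : ∀ {y : G}, y ∈ T → ∀ v, y * (y * v * y) * y = v := fun {y} hy v => by
    calc y * (y * v * y) * y = y * y * v * (y * y) := by group
      _ = v := by rw [X.inv _ hy.1.1, one_mul, mul_one]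
  have hG3 := transposition_group B R
  -- a member moves a component other than its own to a third one
  have hthird : ∀ {y u : G}, y ∈ T → u ∈ T → u ∉ comp T y →
      y * u * y ∉ comp T y ∧ y * u * y ∉ comp T u := by
    intro y u hy hu hn
    have hnc : ¬ Commute y u := fun h => hn (comp_step (mem_comp_self _ _) hy hu h)
    refine ⟨fun h => hn ?_, fun h => hn ?_⟩
    · have := X.comp_conj hy h
      rwa [hinvol hy, hcube hy] at this
    · rw [Basic.braid hG3.1 hy.1.1 hu.1.1 hnc] at h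
      have := X.comp_conj hu h
      rw [hinvol hu, hcube hu] at this
      exact comp_symm this
  set q := c * p * c with hqdef
  have hq : q ∈ T := X.trace_conj hcx hp
  obtain ⟨hqc, hqp⟩ := hthird hcx hp hpc
  let r : Fin 3 → G := ![c, p, q]
  have hrT : ∀ i, r i ∈ T := by intro i; fin_cases i <;> assumption
  have hrne : ∀ i j, i ≠ j → r j ∉ comp T (r i) := by
    intro i j hij
    fin_cases i <;> fin_cases j
    all_goals first
      | exact absurd rfl hij
      | exact hpc | exact hqc | exact hqp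
      | exact fun h => hpc (comp_symm h)
      | exact fun h => hqc (comp_symm h)
      | exact fun h => hqp (comp_symm h)
  have hcover : ∀ y ∈ T, ∃ i, y ∈ comp T (r i) := by
    have hsub : comp T c ∪ comp T p ∪ comp T q ⊆ T := by
      rintro y ((hy | hy) | hy)
      exacts [comp_subset hcx hy, comp_subset hp hy, comp_subset hq hy]
    have heq : comp T c ∪ comp T p ∪ comp T q = T := Set.eq_of_subset_of_ncard_le hsub (by
      rw [Set.ncard_union_eq (Disjoint.union_left (hdisj hqc) (hdisj hqp)) (Set.toFinite _) (Set.toFinite _),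
        Set.ncard_union_eq (hdisj hpc) (Set.toFinite _) (Set.toFinite _), h1080 c hcx, h1080 p hp, h1080 q hq,
        h3240]) (Set.toFinite _)
    intro y hy
    rcases heq.symm ▸ hy with (h | h) | h
    exacts [⟨0, h⟩, ⟨1, h⟩, ⟨2, h⟩]
  -- conjugation by a member
  have hmap : ∀ i j, ∀ y ∈ comp T (r i), (fun v => y * v * y) '' comp T (r j) = comp T (r (otherSwap i j)) := by
    intro i j y hy
    have hyT : y ∈ T := comp_subset (hrT i) hy
    have hto : ∀ k, ∀ v ∈ comp T (r k), y * v * y ∈ comp T (r (otherSwap i k)) := by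
      intro k v hv
      obtain ⟨l, hl⟩ := hcover _ (X.trace_conj hyT (hrT k))
      have hl' : comp T (r l) = comp T (y * r k * y) := (comp_eq_of_mem hl).symm
      suffices hlk : l = otherSwap i k by
        rw [← hlk, hl']; exact X.comp_conj hyT hv
      have hyi : comp T y = comp T (r i) := comp_eq_of_mem hy
      by_cases hki : k = i
      · subst hki
        have h2 := X.comp_conj hyT (comp_symm hy)
        rw [hcube hyT, hyi] at h2
        have hlk : l = k := by
          by_contra hne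
          refine hrne l k hne ?_
          rw [hl', comp_eq_of_mem h2]
          exact mem_comp_self _ _
        have hfix : ∀ k, otherSwap k k = k := by decide
        rw [hlk, hfix]
      · have hn : r k ∉ comp T y := fun h => hrne i k (Ne.symm hki) (hyi ▸ h)
        obtain ⟨h1, h2⟩ := hthird hyT (hrT k) hn
        have hli : l ≠ i := fun e => h1 (hyi ▸ e ▸ hl)
        have hlk : l ≠ k := fun e => h2 (e ▸ hl)
        exact otherSwap_eq hki hli hlk
    refine Set.Subset.antisymm (Set.image_subset_iff.2 fun v hv => hto j v hv) fun v hv => ?_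
    refine ⟨y * v * y, ?_, hinvol hyT v⟩
    have h2 := hto _ v hv
    have hinv2 : ∀ i j, otherSwap i (otherSwap i j) = j := by decide
    rwa [hinv2] at h2
  let C : Fin 3 → Set Q := fun i => X.co ha '' comp T (r i)
  have hco : Set.InjOn (X.co ha) T := fun y hy z hz h => X.co_inj ha hy.1 hz.1 h
  have hinj : Function.Injective C := fun i j h => by
    by_contra hne
    obtain ⟨v, hv, he⟩ := (h ▸ ⟨r i, mem_comp_self _ _, rfl⟩ : X.co ha (r i) ∈ C j)
    rw [hco (comp_subset (hrT j) hv) (hrT i) he] at hv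
    exact hrne j i (Ne.symm hne) hv
  have hmove : ∀ i j, ∀ s ∈ C i, (fun y => s * y * s⁻¹) '' C j = C (otherSwap i j) := by
    rintro i j _ ⟨y, hy, rfl⟩
    show (fun w => X.co ha y * w * (X.co ha y)⁻¹) '' (X.co ha '' comp T (r j)) = X.co ha '' comp T (r (otherSwap i j))
    rw [← hmap i j y hy, Set.image_image, Set.image_image]
    refine Set.image_congr fun v hv => ?_
    rw [Basic.inv_eq B.hD.1 (X.co_mem ha (comp_subset (hrT i) hy).1)]
    exact ((X.co_braid ha B.hD (comp_subset (hrT i) hy).1 (comp_subset (hrT j) hv).1).2).symm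
  have hC0 : C 0 = X'.co ha' '' comp (perp₂ D' a' x') c' := hF₀
  obtain ⟨hΓc, f, hf, ⟨ek⟩⟩ := three_sets C hinj hmove (fun i => ⟨_, r i, mem_comp_self _ _, rfl⟩)
    Cfsg.Agent.Lib.O8Three.Rep.center_T (by rw [hC0]; exact hiso) (by rw [hC0]; exact hstab)
  have hU : ⋃ i, C i = X.co ha '' T := by
    ext s
    simp only [Set.mem_iUnion, C]
    constructor
    · rintro ⟨i, y, hy, rfl⟩; exact ⟨y, comp_subset (hrT i) hy, rfl⟩
    · rintro ⟨y, hy, rfl⟩; obtain ⟨i, hi⟩ := hcover y hy; exact ⟨i, y, hi, rfl⟩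
  refine ⟨center_bot B R, a, ha, x, hxD, hax, ?_, ?_⟩
  · -- the neighbours
    obtain ⟨g, hg, hk, hgy⟩ := exists_proj B ha (X := X) (T := perp D a) (Set.Subset.refl _)
    have himgE : X.co ha '' perp D a = E := Set.Subset.antisymm
      (by rintro _ ⟨y, hy, rfl⟩; exact X.co_mem ha hy) fun s hs => ⟨_, X.mul_e_mem ha hs, X.co_mul ha hs⟩
    let eQ : ↥(Subgroup.closure (X.co ha '' perp D a)) ≃* Q :=
      (MulEquiv.subgroupCongr (by rw [himgE, B.hD.2.2])).trans Subgroup.topEquiv
    obtain ⟨e, he⟩ := quotient_center_equiv (eQ.toMonoidHom.comp g) (eQ.surjective.comp hg) B.hM.1 (fun v hv => by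
      refine hk ?_
      rw [MonoidHom.mem_ker] at hv ⊢
      exact eQ.injective (hv.trans (map_one eQ).symm))
    refine Cfsg.Agent.Lib.FischerExist27.typeM23_of_equiv e.symm ?_ B.hM
    have hkey : ∀ y (hy : y ∈ perp D a), e (QuotientGroup.mk ⟨y, Subgroup.subset_closure hy⟩) = X.co ha y :=
      fun y hy => (he _).trans (hgy y hy)
    ext w
    constructor
    · rintro ⟨⟨y, hy'⟩, hy, rfl⟩
      exact ⟨X.co ha y, X.co_mem ha hy, by rw [← hkey y hy, MulEquiv.symm_apply_apply]⟩
    · rintro ⟨s, hs, rfl⟩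
      refine ⟨⟨_, Subgroup.subset_closure (X.mul_e_mem ha hs)⟩, X.mul_e_mem ha hs, ?_⟩
      rw [MulEquiv.eq_symm_apply]
      exact (hkey _ (X.mul_e_mem ha hs)).trans (X.co_mul ha hs)
  · -- the fibres
    obtain ⟨g, hg, hk, -⟩ := exists_proj B ha (X := X) (T := T) hTa
    let eU : ↥(Subgroup.closure (X.co ha '' T)) ≃* ↥(Subgroup.closure (⋃ i, C i)) :=
      MulEquiv.subgroupCongr (by rw [hU])
    obtain ⟨e, -⟩ := quotient_center_equiv (eU.toMonoidHom.comp g) (eU.surjective.comp hg) hΓc (fun v hv => by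
      refine hk ?_
      rw [MonoidHom.mem_ker] at hv ⊢
      exact eU.injective (hv.trans (map_one eU).symm))
    refine ⟨(f.comp e.toMonoidHom).ker, inferInstance, ⟨MulEquiv.trans ?_ ek⟩,
      ⟨QuotientGroup.quotientKerEquivOfSurjective _ (hf.comp e.surjective)⟩⟩
    exact
      { toFun := fun v => ⟨e v, v.2⟩
        invFun := fun w => ⟨e.symm w, by
          show f (e (e.symm w)) = 1
          rw [MulEquiv.apply_symm_apply]; exact w.2⟩
        left_inv := fun v => Subtype.ext (e.symm_apply_apply _)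
        right_inv := fun w => Subtype.ext (e.apply_symm_apply _)
        map_mul' := fun v w => Subtype.ext (map_mul e _ _) }

end Cfsg.Agent.Lib.FischerTop83
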